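import Groth.Agent.MorSch.K314.EvTwo

/-!
# The doubled evaluation map
-/

set_option autoImplicit false
universe u
open CategoryTheory CategoryTheory.Limits AlgebraicGeometry Opposite TopologicalSpace
open Groth.Agent

namespace K932.EvTwo

open K314.MorScheme K314.MorSmooth

noncomputable section

variable {R : Type u} [CommRing R] {X M P : Scheme.{u}} {f : X ⟶ Spec (CommRingCat.of R)}
  {m : M ⟶ Spec (CommRingCat.of R)} {pc : P ⟶ CohB1.ProjSpace 1 R} {pm : P ⟶ M} {u : P ⟶ X}

/-- The doubled evaluation map. -/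
def ev2 (comm : u ≫ f = pm ≫ m) : pullback pm pm ⟶ pullback f f :=
  pullback.lift (pullback.fst pm pm ≫ u) (pullback.snd pm pm ≫ u) (by
    rw [Category.assoc, Category.assoc, comm, pullback.condition_assoc])

@[reassoc]
theorem ev2_fst (comm : u ≫ f = pm ≫ m) : ev2 comm ≫ pullback.fst f f = pullback.fst pm pm ≫ u :=
  pullback.lift_fst _ _ _

@[reassoc]
theorem ev2_snd (comm : u ≫ f = pm ≫ m) : ev2 comm ≫ pullback.snd f f = pullback.snd pm pm ≫ u :=
  pullback.lift_snd _ _ _

/-- The doubled evaluation map is smooth at a very free curve, off the diagonal. -/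
theorem mem_smoothLocus_ev2 [IsNoetherianRing R] [QuasiSeparated f] [Smooth f] [LocallyOfFiniteType m]
    (hM : IsMor (CohB1.ProjSpace.toSpec 1 R) f m pc pm u) [LocallyOfFinitePresentation (ev2 hM.comm)]
    (δ : ↥(pullback pm pm)) (hδ : δ ∉ Set.range (pullback.diagonal pm))
    (hμ : Subsingleton (Coh.HH (pm.fiber ((pullback.fst pm pm ≫ pm) δ))
      ((Scheme.Modules.pullback (pm.fiberι ((pullback.fst pm pm ≫ pm) δ))).obj (twSh f pc u 0)) 0)) :
    δ ∈ (ev2 hM.comm).smoothLocus :=
  K314.EvTwo.mem_smoothLocus hM (ev2 hM.comm) (ev2_fst hM.comm) (ev2_snd hM.comm) 0 le_rfl δ hδ hμ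

end

end K932.EvTwo
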