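import Groth.Agent.MorSch.K932.EvTwo
import Groth.Agent.MorSch.K314.EvFree
import Groth.Agent.MorSch.K921.FamVery
import Groth.Agent.Curves.K251.FreeH0

/-!
# Use of the smoothness of the doubled evaluation map

* `isVeryFree_of_ev2` : a curve of the family through two different points, at which the doubled evaluation map is smooth,
  is very free;
* `exists_delta` : conversely, a nonconstant very free curve gives such a point of the double family.
-/

set_option autoImplicit false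
universe u
open CategoryTheory CategoryTheory.Limits AlgebraicGeometry Opposite TopologicalSpace MonoidalCategory

namespace K932.EvUse

open scoped Groth.Agent.Dcoh.MonCat
open Groth.Agent Groth.Agent.CohqB.ProjBC Groth.Agent.PerfB.TwistDer K251.P1Dual
open K921.P1Ideal K921.P1Pts K921.NonConst K921.EpsDer K314.MorScheme K314.MorSmooth K932.EvTwo

variable {k : Type u} [Field k] {X M P : Scheme.{u}} {pX : X ⟶ Spec (CommRingCat.of k)}
  {m : M ⟶ Spec (CommRingCat.of k)} {pc : P ⟶ P1 k} {pm : P ⟶ M} {u : P ⟶ X}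

/-- **A curve of the family through two different points at which the doubled evaluation map is smooth is very free.** -/
theorem isVeryFree_of_ev2 [Smooth pX] [IsSeparated pX] (sq : IsPullback pc pm (pP k) m)
    (comm : u ≫ pX = pm ≫ m) (δ : Spec (CommRingCat.of k) ⟶ pullback pm pm)
    (hδ : δ ≫ pullback.fst pm pm ≫ pm ≫ m = 𝟙 _)
    (V : (pullback pm pm).Opens) [Smooth (V.ι ≫ ev2 comm)] (hV : δ (IsLocalRing.closedPoint k) ∈ V)
    (hne : δ ≫ pullback.fst _ _ ≫ u ≠ δ ≫ pullback.snd _ _ ≫ u)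
    (h : P1 k ⟶ P) (hh1 : h ≫ pc = 𝟙 _) (hh2 : h ≫ pm = pP k ≫ δ ≫ pullback.fst pm pm ≫ pm) :
    MorSch.IsVeryFree pX (h ≫ u) := by
  have hδ' : δ ≫ pullback.snd pm pm ≫ pm = δ ≫ pullback.fst pm pm ≫ pm := by rw [pullback.condition]
  have hf : (h ≫ u) ≫ pX = pP k := by
    rw [Category.assoc, comm, reassoc_of% hh2, hδ, Category.comp_id]
  let s : Spec (CommRingCat.of k) ⟶ P1 k := δ ≫ pullback.fst pm pm ≫ pc
  let t : Spec (CommRingCat.of k) ⟶ P1 k := δ ≫ pullback.snd pm pm ≫ pc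
  have hs : s ≫ pP k = 𝟙 _ := by
    change (δ ≫ pullback.fst pm pm ≫ pc) ≫ pP k = _
    rw [Category.assoc, Category.assoc, sq.w, hδ]
  have ht : t ≫ pP k = 𝟙 _ := by
    change (δ ≫ pullback.snd pm pm ≫ pc) ≫ pP k = _
    rw [Category.assoc, Category.assoc, sq.w, reassoc_of% hδ', hδ]
  have hsh : s ≫ h = δ ≫ pullback.fst pm pm := by
    apply sq.hom_ext
    · rw [Category.assoc, hh1, Category.comp_id, Category.assoc]
    · rw [Category.assoc, hh2, reassoc_of% hs, Category.assoc]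
  have hth : t ≫ h = δ ≫ pullback.snd pm pm := by
    apply sq.hom_ext
    · rw [Category.assoc, hh1, Category.comp_id, Category.assoc]
    · rw [Category.assoc, hh2, reassoc_of% ht, Category.assoc, hδ']
  refine K921.TanLift2.isVeryFree_of_lift (h ≫ u) hf t ht s hs (fun hst => hne ?_) fun v hv hv' => ?_
  · have h1 := point_ext (pP k) _ _ hs ht hst
    rw [← reassoc_of% hsh, ← reassoc_of% hth, h1]
  · have hsX : (tT k ≫ s ≫ h ≫ u) ≫ pX = tT k := by
      rw [Category.assoc, Category.assoc, hf, hs, Category.comp_id]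
    let v₂ : T k ⟶ pullback pX pX := pullback.lift (tT k ≫ s ≫ h ≫ u) v (by rw [hsX, hv])
    have hv1 : v₂ ≫ pullback.fst pX pX = tT k ≫ s ≫ h ≫ u := pullback.lift_fst _ _ _
    have hv2 : v₂ ≫ pullback.snd pX pX = v := pullback.lift_snd _ _ _
    obtain ⟨w, hw, hw'⟩ := K921.FamFree.exists_tan_of_smooth (ev2 comm) V δ hV v₂ (by
      apply pullback.hom_ext
      · rw [Category.assoc, hv1, pt_tT_assoc, reassoc_of% hsh, Category.assoc, ev2_fst]
      · rw [Category.assoc, hv2, hv', reassoc_of% hth, Category.assoc, ev2_snd])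
    let μ : T k ⟶ M := w ≫ pullback.fst pm pm ≫ pm
    have hμ' : w ≫ pullback.snd pm pm ≫ pm = μ := by
      change _ = w ≫ pullback.fst pm pm ≫ pm
      rw [pullback.condition]
    have hμT : μ ≫ m = tT k := by
      change (w ≫ pullback.fst pm pm ≫ pm) ≫ m = _
      rw [Category.assoc, Category.assoc, ← comm, ← ev2_fst_assoc comm, reassoc_of% hw, reassoc_of% hv1]
      have h2 := hsX
      rw [Category.assoc, Category.assoc, Category.assoc] at h2
      exact h2
    have hptμ : pt k ≫ μ = δ ≫ pullback.fst pm pm ≫ pm := by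
      change pt k ≫ w ≫ pullback.fst pm pm ≫ pm = _
      rw [reassoc_of% hw']
    have hGw : pr (pP k) ≫ pP k = (qT (pP k) ≫ μ) ≫ m := by
      rw [Category.assoc, hμT]
      exact pullback.condition
    let G : PT (pP k) ⟶ P := sq.lift (pr (pP k)) (qT (pP k) ≫ μ) hGw
    have hG1 : G ≫ pc = pr (pP k) := sq.lift_fst _ _ _
    have hG2 : G ≫ pm = qT (pP k) ≫ μ := sq.lift_snd _ _ _
    have hGa : ∀ (a : T k ⟶ P), a ≫ pm = μ → ∀ hh, pullback.lift (a ≫ pc) (𝟙 _) hh ≫ G = a := by
      intro a ha hh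
      apply sq.hom_ext
      · rw [Category.assoc, hG1]
        exact pullback.lift_fst _ _ _
      · rw [Category.assoc, hG2, ha]
        exact (pullback.lift_snd_assoc _ _ _ _).trans (Category.id_comp _)
    have ha₁ : (w ≫ pullback.fst pm pm) ≫ pm = μ := Category.assoc _ _ _
    have ha₂ : (w ≫ pullback.snd pm pm) ≫ pm = μ := by rw [Category.assoc, hμ']
    refine ⟨G ≫ u, (w ≫ pullback.snd pm pm) ≫ pc, (w ≫ pullback.fst pm pm) ≫ pc, ?_, ?_, ?_, ?_, ?_, ?_, ?_, ?_⟩
    · rw [Category.assoc, comm, reassoc_of% hG2, hμT]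
      exact pullback.condition.symm
    · have h1 : i0 (pP k) ≫ G = h := by
        apply sq.hom_ext
        · rw [Category.assoc, hG1, i0_pr, hh1]
        · rw [Category.assoc, hG2, i0_qT_assoc, hh2, hptμ]
      rw [← Category.assoc, h1]
    · rw [Category.assoc, sq.w, Category.assoc, reassoc_of% ha₂, hμT]
    · rw [Category.assoc, reassoc_of% hw']
    · rw [Category.assoc, sq.w, Category.assoc, reassoc_of% ha₁, hμT]
    · rw [Category.assoc, reassoc_of% hw']
    · intro hh
      rw [← Category.assoc, hGa _ ha₂ hh, Category.assoc, ← ev2_snd comm, reassoc_of% hw, hv2]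
    · intro hh
      rw [← Category.assoc, hGa _ ha₁ hh, Category.assoc, ← ev2_fst comm, reassoc_of% hw, hv1]

/-- The fibre condition at the point of a very free curve. -/
theorem h0_of_isVeryFree [Smooth pX] [IsSeparated pX] [IsIntegral X] (g : P1 k ⟶ X) (hvf : MorSch.IsVeryFree pX g) :
    Subsingleton (Coh.HH (CohB1.ProjSpace 1 k)
      (CohB1.tensorMod ((Scheme.Modules.pullback g).obj (Omega.sheaf pX)) (Twist.twistProjSpace 1 k 0)) 0) := by
  let e0 : CohB1.tensorMod ((Scheme.Modules.pullback g).obj (Omega.sheaf pX)) (Twist.twistProjSpace 1 k 0) ≅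
      (Scheme.Modules.pullback g).obj (Omega.sheaf pX) :=
    (whiskerLeftIso _ (twZero 1 k).symm ≪≫ ρ_ _ :
      (Scheme.Modules.pullback g).obj (Omega.sheaf pX) ⊗ Twist.twistProjSpace 1 k 0 ≅
        (Scheme.Modules.pullback g).obj (Omega.sheaf pX))
  exact Fga.HShift.subsingleton_of_iso e0.symm 0 ((K251.FreeH0.isVeryFree_iff pX g).1 hvf)

/-- The doubled evaluation map is locally of finite presentation. -/
theorem lfp_ev2 [LocallyOfFiniteType pX] [LocallyOfFiniteType m] (sq : IsPullback pc pm (pP k) m)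
    (comm : u ≫ pX = pm ≫ m) : LocallyOfFinitePresentation (ev2 comm) := by
  have hc : IsProper (pP k) := Dix.ProjProper.isProper_toSpec 1 k
  have hpm : IsProper pm := MorphismProperty.of_isPullback (P := @IsProper) sq hc
  have hX : IsLocallyNoetherian X := LocallyOfFiniteType.isLocallyNoetherian pX
  have hXX : IsLocallyNoetherian (pullback pX pX) := LocallyOfFiniteType.isLocallyNoetherian (pullback.fst pX pX)
  have h1 : LocallyOfFiniteType (ev2 comm ≫ pullback.fst pX pX ≫ pX) := by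
    rw [ev2_fst_assoc, comm]
    infer_instance
  have h2 : LocallyOfFiniteType (ev2 comm) := locallyOfFiniteType_of_comp (ev2 comm) (pullback.fst pX pX ≫ pX)
  exact LocallyOfFinitePresentation.iff_locallyOfFiniteType.2 h2

/-- **A nonconstant very free curve gives a rational point of the double family where the doubled evaluation is smooth.** -/
theorem exists_delta [Infinite k] [Smooth pX] [IsSeparated pX] [IsIntegral X] [LocallyOfFiniteType m]
    (hM : IsMor (pP k) pX m pc pm u) (g : P1 k ⟶ X) (hg : g ≫ pX = pP k) (hnc : ¬ ∃ x : X, Set.range g ⊆ {x})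
    (hvf : MorSch.IsVeryFree pX g) [LocallyOfFinitePresentation (ev2 hM.comm)] :
    ∃ (μ : Spec (CommRingCat.of k) ⟶ M) (δ : Spec (CommRingCat.of k) ⟶ pullback pm pm), μ ≫ m = 𝟙 _ ∧
      δ ≫ pullback.fst pm pm ≫ pm = μ ∧ δ (IsLocalRing.closedPoint k) ∈ (ev2 hM.comm).smoothLocus ∧
      (δ ≫ pullback.fst pm pm ≫ u) (IsLocalRing.closedPoint k) ≠
        (δ ≫ pullback.snd pm pm ≫ u) (IsLocalRing.closedPoint k) ∧
      Subsingleton (Coh.HH (pm.fiber (μ (IsLocalRing.closedPoint k)))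
        ((Scheme.Modules.pullback (pm.fiberι (μ (IsLocalRing.closedPoint k)))).obj (twSh pX pc u 0)) 0) := by
  have hSN : IsLocallyNoetherian (Spec (CommRingCat.of k)) := inferInstance
  have sqk : IsPullback (𝟙 (P1 k)) (pP k) (pP k) (𝟙 _) := IsPullback.of_horiz_isIso ⟨by simp⟩
  obtain ⟨μ, ⟨hμ1, hμ2⟩, -⟩ := hM.existsUnique (T := Spec (CommRingCat.of k)) (𝟙 _) (𝟙 (P1 k)) (pP k) sqk g
    (by rw [hg, Category.comp_id])
  let h0 : P1 k ⟶ P := hM.sq.lift (𝟙 _) (pP k ≫ μ) (by
    rw [Category.assoc, hμ1, Category.id_comp, Category.comp_id])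
  have h01 : h0 ≫ pc = 𝟙 _ := hM.sq.lift_fst _ _ _
  have h02 : h0 ≫ pm = pP k ≫ μ := hM.sq.lift_snd _ _ _
  have h0u : h0 ≫ u = g := hμ2 h0 h01 h02
  obtain ⟨t₁, t₂, ht₁, ht₂, hne⟩ := exists_ne g hg hnc
  let δ : Spec (CommRingCat.of k) ⟶ pullback pm pm := pullback.lift (t₁ ≫ h0) (t₂ ≫ h0) (by
    rw [Category.assoc, Category.assoc, h02, reassoc_of% ht₁, reassoc_of% ht₂])
  have hδ1 : δ ≫ pullback.fst pm pm = t₁ ≫ h0 := pullback.lift_fst _ _ _
  have hδ2 : δ ≫ pullback.snd pm pm = t₂ ≫ h0 := pullback.lift_snd _ _ _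
  have hδμ : δ ≫ pullback.fst pm pm ≫ pm = μ := by
    rw [reassoc_of% hδ1, h02, reassoc_of% ht₁]
  have hδ1u : δ ≫ pullback.fst pm pm ≫ u = t₁ ≫ g := by rw [reassoc_of% hδ1, h0u]
  have hδ2u : δ ≫ pullback.snd pm pm ≫ u = t₂ ≫ g := by rw [reassoc_of% hδ2, h0u]
  have hneP : (δ ≫ pullback.fst pm pm ≫ u) (IsLocalRing.closedPoint k) ≠
      (δ ≫ pullback.snd pm pm ≫ u) (IsLocalRing.closedPoint k) := by
    rw [hδ1u, hδ2u]
    exact fun h => hne (point_ext pX _ _ (by rw [Category.assoc, hg, ht₁]) (by rw [Category.assoc, hg, ht₂]) h)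
  have hμ' : μ ≫ m = Spec.map (CommRingCat.ofHom (RingHom.id k)) := by
    rw [hμ1]
    exact (Spec.map_id _).symm
  have hvan := (field_iff (u := u) (f := pX) hM.sq 0 (RingHom.id k) μ hμ' h0
    (by rw [h01, K314.EvFree.pmap_id]) h02 (μ (IsLocalRing.closedPoint k)) rfl).1 (by
      rw [h0u]
      exact h0_of_isVeryFree g hvf)
  have hδpt : (pullback.fst pm pm ≫ pm) (δ (IsLocalRing.closedPoint k)) = μ (IsLocalRing.closedPoint k) :=
    (Scheme.Hom.comp_apply δ (pullback.fst pm pm ≫ pm) (IsLocalRing.closedPoint k)).symm.trans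
      (congrArg (fun z : Spec (CommRingCat.of k) ⟶ M => z (IsLocalRing.closedPoint k)) hδμ)
  refine ⟨μ, δ, hμ1, hδμ, ?_, hneP, hvan⟩
  refine mem_smoothLocus_ev2 hM _ ?_ (by rw [hδpt]; exact hvan)
  rintro ⟨z, hz⟩
  apply hneP
  have key : ∀ p : pullback pm pm ⟶ P, pullback.diagonal pm ≫ p = 𝟙 _ →
      (δ ≫ p ≫ u) (IsLocalRing.closedPoint k) = u z := by
    intro p hp
    have h1 : (δ ≫ p ≫ u) (IsLocalRing.closedPoint k) = (p ≫ u) (δ (IsLocalRing.closedPoint k)) :=
      Scheme.Hom.comp_apply _ _ _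
    have h2 : (p ≫ u) (pullback.diagonal pm z) = (pullback.diagonal pm ≫ p ≫ u) z :=
      (Scheme.Hom.comp_apply _ _ _).symm
    rw [h1, ← hz, h2, reassoc_of% hp]
  rw [key _ (pullback.diagonal_fst pm), key _ (pullback.diagonal_snd pm)]

end K932.EvUse
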