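import Mathlib.AlgebraicGeometry.AffineSpace
import Groth.Agent.Ega2.H18.PnExist
import Groth.Agent.Ega2.H296.PnGen
import Groth.Agent.S3573
import Groth.Agent.Ega1.AmpFam
import Groth.Agent.PerfB.PicConn338
import Groth.Agent.CohqB.ProjLift2

/-!
# Families of maps from a fixed proper scheme to projective space, parametrised by open subschemes of affine spaces
-/

set_option autoImplicit false
universe u
open CategoryTheory CategoryTheory.Limits AlgebraicGeometry Opposite TopologicalSpace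
open Groth.Agent

namespace K932.Fam

open Fdesc.LocGen (pullHom pullSec sec_pullHom homOf sec)

variable (k : Type u) [Field k] {Y : Scheme.{u}} (pY : Y ⟶ Spec (CommRingCat.of k))

/-- The graph of a rational point of the parameter space. -/
noncomputable def slice {W : Scheme.{u}} (qW : W ⟶ Spec (CommRingCat.of k))
    (s : Spec (CommRingCat.of k) ⟶ W) (hs : s ≫ qW = 𝟙 _) : Y ⟶ pullback pY qW :=
  pullback.lift (𝟙 Y) (pY ≫ s) (by rw [Category.assoc, hs, Category.id_comp, Category.comp_id])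

section Slice

variable {W : Scheme.{u}} (qW : W ⟶ Spec (CommRingCat.of k))
    (s : Spec (CommRingCat.of k) ⟶ W) (hs : s ≫ qW = 𝟙 _)

@[reassoc (attr := simp)]
theorem slice_fst : slice k pY qW s hs ≫ pullback.fst _ _ = 𝟙 Y := pullback.lift_fst _ _ _

@[reassoc (attr := simp)]
theorem slice_snd : slice k pY qW s hs ≫ pullback.snd _ _ = pY ≫ s := pullback.lift_snd _ _ _

theorem isPullback_slice : IsPullback (slice k pY qW s hs) pY (pullback.snd pY qW) s := by
  have h2 : IsPullback (slice k pY qW s hs ≫ pullback.fst pY qW) pY pY (s ≫ qW) := by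
    rw [slice_fst, hs]
    exact IsPullback.of_horiz_isIso ⟨by simp⟩
  exact IsPullback.of_right h2 (slice_snd k pY qW s hs) (IsPullback.of_hasPullback pY qW)

theorem mem_range_slice (z : ↥(pullback pY qW)) (y : ↥(Spec (CommRingCat.of k)))
    (hz : pullback.snd pY qW z = s y) : ∃ x : Y, slice k pY qW s hs x = z := by
  have h := isPullback_slice k pY qW s hs
  have h1 : z ∈ Set.range (pullback.fst (pullback.snd pY qW) s) := by
    rw [Scheme.Pullback.range_fst]
    exact ⟨y, hz.symm⟩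
  obtain ⟨w, hw⟩ := h1
  refine ⟨h.isoPullback.inv w, ?_⟩
  rw [← Scheme.Hom.comp_apply, h.isoPullback_inv_fst]
  exact hw

end Slice

section Iso

/-- `g^* h^* M ≅ (g ≫ h)^* M`, compatible with pulling back sections. -/
theorem exists_comp_iso {Z Y X : Scheme.{u}} (g : Z ⟶ Y) (h : Y ⟶ X) (gh : Z ⟶ X) (e : g ≫ h = gh)
    (M : X.Modules) :
    ∃ θ : (Scheme.Modules.pullback g).obj ((Scheme.Modules.pullback h).obj M) ≅
      (Scheme.Modules.pullback gh).obj M,
      ∀ m : Γ(M, ⊤), θ.hom.app ⊤ (pullSec g (pullSec h m)) = pullSec gh m := by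
  subst e
  exact ⟨(Scheme.Modules.pullbackComp g h).app M, fun m => Fdesc.LocGen.pullSec_comp' g h m⟩

theorem exists_id_iso {Y : Scheme.{u}} (g : Y ⟶ Y) (e : g = 𝟙 Y) (M : Y.Modules) :
    ∃ θ : (Scheme.Modules.pullback g).obj M ≅ M, ∀ m : Γ(M, ⊤), θ.hom.app ⊤ (pullSec g m) = m := by
  subst e
  exact ⟨(Scheme.Modules.pullbackId Y).app M, fun m => PerfB.PicConn338.pullSec_id m⟩

theorem genLocus_homOf_iso {X : Scheme.{u}} {L L' : X.Modules} (e : L ≅ L') (m : Γ(L, ⊤)) :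
    CohB1.genLocus L' (homOf (e.hom.app ⊤ m)) = CohB1.genLocus L (homOf m) := by
  rw [← CohqB.ProjLift.genLocus_comp_iso e (homOf m)]
  congr 1
  apply Fdesc.LocGen.hom_ext_sec
  rw [Fdesc.LocGen.sec_homOf, Fdesc.LocGen.sec_comp, Fdesc.LocGen.sec_homOf, Fdesc.LocGen.res_refl,
    Fdesc.LocGen.res_refl]

theorem inv_hom_app {X : Scheme.{u}} {L L' : X.Modules} (e : L ≅ L') (m : Γ(L, ⊤)) :
    e.inv.app ⊤ (e.hom.app ⊤ m) = m := congr(($(e.hom_inv_id)).app ⊤ m)

/-- The inverse image of a global section. -/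
noncomputable def pt {X Y : Scheme.{u}} (f : X ⟶ Y) {M : Y.Modules} (m : Γ(M, ⊤)) :
    Γ((Scheme.Modules.pullback f).obj M, ⊤) := pullSec f m

theorem pt_smul {X Y : Scheme.{u}} (f : X ⟶ Y) {M : Y.Modules} (a : Γ(Y, ⊤)) (m : Γ(M, ⊤)) :
    pt f (a • m) = (f.appTop a : Γ(X, ⊤)) • pt f m := Fdesc.LocGen.pullSec_smul f a m

theorem pt_sum {X Y : Scheme.{u}} (f : X ⟶ Y) {M : Y.Modules} {κ : Type*} (S : Finset κ) (m : κ → Γ(M, ⊤)) :
    pt f (∑ j ∈ S, m j) = ∑ j ∈ S, pt f (m j) :=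
  map_sum (((Scheme.Modules.pullbackPushforwardAdjunction f).unit.app M).app ⊤).hom m S

theorem genLocus_pt {X Y : Scheme.{u}} (f : X ⟶ Y) {M : Y.Modules} (hM : PicF.IsInvertible M) (m : Γ(M, ⊤)) :
    CohB1.genLocus _ (homOf (pt f m)) = f ⁻¹ᵁ CohB1.genLocus M (homOf m) := by
  rw [← Ega1.AmpFam.genLocus_pullHom f hM]
  congr 1
  apply Fdesc.LocGen.hom_ext_sec
  have h := sec_pullHom f (homOf m) ⊤
  rw [Fdesc.LocGen.sec_homOf, Fdesc.LocGen.res_refl] at h
  rw [Fdesc.LocGen.sec_homOf, Fdesc.LocGen.res_refl]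
  exact h.symm

end Iso

section Sections

variable {A : Scheme.{u}} (qA : A ⟶ Spec (CommRingCat.of k)) {L : Y.Modules} {m : ℕ}
  (b : Fin m → Γ(L, ⊤)) (c : Fin m → Γ(A, ⊤))

/-- `Σ c_j b_j` on `Y × A` -/
noncomputable def fsec : Γ((Scheme.Modules.pullback (pullback.fst pY qA)).obj L, ⊤) :=
  ∑ j, ((pullback.snd pY qA).appTop (c j) : Γ(pullback pY qA, ⊤)) • pt (pullback.fst pY qA) (b j)

variable (s : Spec (CommRingCat.of k) ⟶ A) (hs : s ≫ qA = 𝟙 _)

variable (L) in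
/-- Restriction of `Σ c_j b_j` to a slice. -/
theorem exists_slice_iso :
    ∃ θ : (Scheme.Modules.pullback (slice k pY qA s hs)).obj
        ((Scheme.Modules.pullback (pullback.fst pY qA)).obj L) ≅ L,
      ∀ (b : Fin m → Γ(L, ⊤)) (c : Fin m → Γ(A, ⊤)) (v : Fin m → k)
        (_ : ∀ j, s.appTop (c j) = (Scheme.ΓSpecIso (CommRingCat.of k)).inv (v j)),
        θ.hom.app ⊤ (pt (slice k pY qA s hs) (fsec k pY qA b c)) =
          ∑ j, ProjUP.toGlobal pY (v j) • b j := by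
  obtain ⟨θ₁, h₁⟩ := exists_comp_iso (slice k pY qA s hs) (pullback.fst pY qA) (𝟙 Y)
    (slice_fst k pY qA s hs) L
  obtain ⟨θ₂, h₂⟩ := exists_id_iso (𝟙 Y) rfl L
  refine ⟨θ₁ ≪≫ θ₂, fun b c v hv => ?_⟩
  have h3 : ∀ j, (slice k pY qA s hs).appTop ((pullback.snd pY qA).appTop (c j)) =
      ProjUP.toGlobal pY (v j) := fun j => by
    have h4 := congr(($(slice_snd k pY qA s hs)).appTop (c j))
    rw [Scheme.Hom.comp_appTop, Scheme.Hom.comp_appTop] at h4
    have h5 : pY.appTop (s.appTop (c j)) = ProjUP.toGlobal pY (v j) := by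
      rw [hv]
      rfl
    exact (show (slice k pY qA s hs).appTop ((pullback.snd pY qA).appTop (c j)) =
      pY.appTop (s.appTop (c j)) from h4).trans h5
  have h5 : ∀ j, (θ₁ ≪≫ θ₂).hom.app ⊤ (pt (slice k pY qA s hs) (pt (pullback.fst pY qA) (b j))) = b j :=
    fun j => by
    change θ₂.hom.app ⊤ (θ₁.hom.app ⊤ _) = _
    rw [show θ₁.hom.app ⊤ (pt (slice k pY qA s hs) (pt (pullback.fst pY qA) (b j))) = pullSec (𝟙 Y) (b j)
      from h₁ (b j)]
    exact h₂ (b j)
  unfold fsec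
  rw [pt_sum, map_sum]
  refine Finset.sum_congr rfl fun j _ => ?_
  rw [pt_smul, Scheme.Modules.Hom.app_smul, h3, h5]

end Sections

section Main

open ProjUP

variable [IsProper pY] {L : Y.Modules} (hL : PicF.IsInvertible L) {m : ℕ} (b : Fin m → Γ(L, ⊤))
  (hb : ∀ t : Γ(L, ⊤), ∃ v : Fin m → k, t = ∑ j, ProjUP.toGlobal pY (v j) • b j) (N : ℕ)

include hL hb in
/-- All maps `f : Y ⟶ P^N` with `f^* O(1) ≅ L` occur in one family, parametrised by an open subscheme of an affine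
space. -/
theorem exists_family :
    ∃ (W : (𝔸(ULift.{u} (Fin (N + 1) × Fin m); Spec (CommRingCat.of k))).Opens)
      (r : pullback pY (W.ι ≫ (𝔸(ULift.{u} (Fin (N + 1) × Fin m); Spec (CommRingCat.of k)) ↘
        Spec (CommRingCat.of k))) ⟶ CohB1.ProjSpace N k),
      r ≫ CohB1.ProjSpace.toSpec N k = pullback.fst _ _ ≫ pY ∧
      ∀ f : Y ⟶ CohB1.ProjSpace N k, f ≫ CohB1.ProjSpace.toSpec N k = pY →
        Nonempty ((Scheme.Modules.pullback f).obj (Twist.twistProjSpace N k 1) ≅ L) →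
        ∃ (s : Spec (CommRingCat.of k) ⟶ W) (hs : s ≫ W.ι ≫ (𝔸(ULift.{u} (Fin (N + 1) × Fin m);
            Spec (CommRingCat.of k)) ↘ Spec (CommRingCat.of k)) = 𝟙 _),
          slice k pY _ s hs ≫ r = f := by
  let Λ : Type u := ULift.{u} (Fin (N + 1) × Fin m)
  let A : Scheme.{u} := 𝔸(Λ; Spec (CommRingCat.of k))
  let qA : A ⟶ Spec (CommRingCat.of k) := A ↘ Spec (CommRingCat.of k)
  let c : Fin (N + 1) → Fin m → Γ(A, ⊤) := fun i j => AffineSpace.coord _ (ULift.up (i, j))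
  let LA := (Scheme.Modules.pullback (pullback.fst pY qA)).obj L
  have hLA : PicF.IsInvertible LA := Fdesc.LocGen.isInvertible_pullback _ hL
  let S : Fin (N + 1) → Γ(LA, ⊤) := fun i => fsec k pY qA b (c i)
  let G : (pullback pY qA).Opens := ⨆ i, CohB1.genLocus LA (homOf (S i))
  -- the open set of parameters
  have hclosed : IsClosed ((pullback.snd pY qA) '' ((G : Set ↥(pullback pY qA))ᶜ)) :=
    (pullback.snd pY qA).isClosedMap _ G.isOpen.isClosed_compl
  let W : A.Opens := ⟨((pullback.snd pY qA) '' ((G : Set ↥(pullback pY qA))ᶜ))ᶜ, hclosed.isOpen_compl⟩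
  have hW : ∀ z : ↥(pullback pY qA), pullback.snd pY qA z ∈ W → z ∈ G := fun z hz => by
    by_contra h
    exact hz ⟨z, h, rfl⟩
  let qW : (W : Scheme.{u}) ⟶ Spec (CommRingCat.of k) := W.ι ≫ qA
  let jW : pullback pY qW ⟶ pullback pY qA :=
    pullback.lift (pullback.fst pY qW) (pullback.snd pY qW ≫ W.ι) (by
      rw [pullback.condition, Category.assoc])
  have hj1 : jW ≫ pullback.fst pY qA = pullback.fst pY qW := pullback.lift_fst _ _ _
  have hj2 : jW ≫ pullback.snd pY qA = pullback.snd pY qW ≫ W.ι := pullback.lift_snd _ _ _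
  have hjG : ∀ z, jW z ∈ G := fun z => by
    apply hW
    rw [← Scheme.Hom.comp_apply, hj2, Scheme.Hom.comp_apply]
    exact (pullback.snd pY qW z).2
  have hcov : ⨆ i, CohB1.genLocus ((Scheme.Modules.pullback jW).obj LA)
      (homOf (M := (Scheme.Modules.pullback jW).obj LA) (pt jW (S i))) = ⊤ := by
    rw [eq_top_iff]
    intro z _
    have h1 := hjG z
    obtain ⟨i, hi⟩ := Opens.mem_iSup.1 h1
    refine Opens.mem_iSup.2 ⟨i, ?_⟩
    rw [genLocus_pt jW hLA]
    exact hi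
  obtain ⟨r, hr, τ, hτ⟩ := Ega2.H18.PnExist.exists_map N (pullback.fst pY qW ≫ pY)
    ((Scheme.Modules.pullback jW).obj LA) (fun i => pt jW (S i)) hcov
  refine ⟨W, r, hr, fun f hf ⟨ε⟩ => ?_⟩
  let t : Fin (N + 1) → Γ(L, ⊤) := fun i =>
    ε.hom.app ⊤ (ProjUP.pullSec f (Twist.twistProjSpace N k 1) (ProjUP.coord N k i))
  choose v hv using fun i => hb (t i)
  let a : Spec (CommRingCat.of k) ⟶ A := AffineSpace.homOfVector (𝟙 _)
    (fun l : Λ => (Scheme.ΓSpecIso (CommRingCat.of k)).inv (v l.down.1 l.down.2))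
  have ha : a ≫ qA = 𝟙 _ := AffineSpace.homOfVector_over _ _
  have hav : ∀ i j, a.appTop (c i j) = (Scheme.ΓSpecIso (CommRingCat.of k)).inv (v i j) := fun i j =>
    AffineSpace.homOfVector_appTop_coord _ _ (ULift.up (i, j))
  obtain ⟨θ, hθ⟩ := exists_slice_iso (m := m) k pY qA L a ha
  have hθ' : ∀ i, θ.hom.app ⊤ (pt (slice k pY qA a ha) (S i)) = t i := fun i => by
    rw [hθ b (c i) (v i) (hav i)]
    exact (hv i).symm
  have hcov' : ⨆ i, CohB1.genLocus L (homOf (t i)) = ⊤ := by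
    have h1 := Ega2.H18.PnExist.iSup_genLocus_eq_top (Ega2.H296.PnGen.isInvertible_pullback_twist f) _
      (Ega2.H296.PnGen.generatedBy_pullSec f)
    rw [← h1]
    exact iSup_congr fun i => genLocus_homOf_iso ε _
  have hslG : ∀ x : Y, slice k pY qA a ha x ∈ G := fun x => by
    have h1 : x ∈ ⨆ i, CohB1.genLocus L (homOf (t i)) := by
      rw [hcov']
      trivial
    obtain ⟨i, hi⟩ := Opens.mem_iSup.1 h1
    refine Opens.mem_iSup.2 ⟨i, ?_⟩
    rw [← hθ', genLocus_homOf_iso, genLocus_pt _ hLA] at hi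
    exact hi
  have haW : ∀ y, a y ∈ W := fun y hy => by
    obtain ⟨z, hz, hzy⟩ := hy
    obtain ⟨x, rfl⟩ := mem_range_slice k pY qA a ha z y hzy
    exact hz (hslG x)
  have hrange : Set.range a ⊆ Set.range W.ι := by
    rintro _ ⟨y, rfl⟩
    rw [Scheme.Opens.range_ι]
    exact haW y
  let s : Spec (CommRingCat.of k) ⟶ W := IsOpenImmersion.lift W.ι a hrange
  have hsa : s ≫ W.ι = a := IsOpenImmersion.lift_fac _ _ _
  have hs : s ≫ qW = 𝟙 _ := by
    change s ≫ W.ι ≫ qA = 𝟙 _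
    rw [reassoc_of% hsa, ha]
  refine ⟨s, hs, ?_⟩
  have hsj : slice k pY qW s hs ≫ jW = slice k pY qA a ha := by
    apply pullback.hom_ext
    · rw [Category.assoc, hj1, slice_fst, slice_fst]
    · rw [Category.assoc, hj2, slice_snd_assoc, slice_snd, hsa]
  change slice k pY qW s hs ≫ r = f
  generalize hσ : slice k pY qW s hs = σ at hsj
  obtain ⟨θ₁, h₁⟩ := exists_comp_iso σ r (σ ≫ r) rfl (Twist.twistProjSpace N k 1)
  obtain ⟨θ₂, h₂⟩ := exists_comp_iso σ jW _ hsj LA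
  refine S3573.result N (σ ≫ r) f ?_ (θ₁.symm ≪≫ (Scheme.Modules.pullback σ).mapIso τ ≪≫ θ₂ ≪≫ θ ≪≫ ε.symm) ?_
  · rw [Category.assoc, hr, hf, ← hσ, slice_fst_assoc]
  · intro i
    have e1 : θ₁.inv.app ⊤ (ProjUP.pullSec (σ ≫ r) (Twist.twistProjSpace N k 1) (ProjUP.coord N k i)) =
        pt σ (pt r (ProjUP.coord N k i)) := by
      have h := h₁ (ProjUP.coord N k i)
      have h' := congrArg (θ₁.inv.app ⊤) h
      have h'' : θ₁.inv.app ⊤ (θ₁.hom.app ⊤ (pullSec σ (pullSec r (ProjUP.coord N k i)))) =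
          pullSec σ (pullSec r (ProjUP.coord N k i)) := inv_hom_app θ₁ _
      exact h'.symm.trans h''
    have e2 : ((Scheme.Modules.pullback σ).map τ.hom).app ⊤ (pt σ (pt r (ProjUP.coord N k i))) =
        pt σ (pt jW (S i)) := by
      refine (Fdesc.LocGen.pullback_map_pullSec σ τ.hom (U := ⊤) (pt r (ProjUP.coord N k i))).trans ?_
      exact congrArg (pullSec σ) (hτ i)
    have e3 : θ₂.hom.app ⊤ (pt σ (pt jW (S i))) = pt (slice k pY qA a ha) (S i) := h₂ (S i)
    have e4 : ε.inv.app ⊤ (t i) =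
        ProjUP.pullSec f (Twist.twistProjSpace N k 1) (ProjUP.coord N k i) := inv_hom_app ε _
    change ε.inv.app ⊤ (θ.hom.app ⊤ (θ₂.hom.app ⊤ (((Scheme.Modules.pullback σ).map τ.hom).app ⊤
      (θ₁.inv.app ⊤ _)))) = _
    rw [e1, e2, e3, hθ', e4]

end Main

end K932.Fam
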