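import Groth.Agent.MorSch.K921.NonConst
import Groth.Agent.CurvesA.AffCurveGeom
import Groth.Agent.Ega1.ReducedSub

/-!
# Stratification of closed subsets of schemes of finite type over a perfect field by smooth schemes
-/

set_option autoImplicit false
universe u
open CategoryTheory CategoryTheory.Limits AlgebraicGeometry Opposite TopologicalSpace
open Groth.Agent

namespace K932.Strata

variable {k : Type u} [Field k] {H : Scheme.{u}} (q : H ⟶ Spec (CommRingCat.of k))

/-- A closed subset of a scheme of finite type over a perfect field is the union of the images of finitely many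
immersions of smooth integral schemes. -/
theorem exists_strata [PerfectField k] [LocallyOfFiniteType q] [CompactSpace H] (T : Closeds H) :
    ∃ S : Set (Over H), S.Finite ∧ (∀ g ∈ S, IsImmersion g.hom ∧ IsIntegral g.left ∧ Smooth (g.hom ≫ q) ∧
      CompactSpace g.left ∧ Set.range g.hom ⊆ T) ∧ ∀ x ∈ T, ∃ g ∈ S, x ∈ Set.range g.hom := by
  have hLN : IsLocallyNoetherian H := LocallyOfFiniteType.isLocallyNoetherian q
  have hN : IsNoetherian H := { }
  induction T using WellFoundedLT.induction with
  | ind T ih =>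
  by_cases hT : (T : Set H).Nonempty
  swap
  · exact ⟨∅, Set.finite_empty, fun g hg => hg.elim, fun x hx => (hT ⟨_, hx⟩).elim⟩
  let Z := (Scheme.IdealSheafData.vanishingIdeal T).subscheme
  let i : Z ⟶ H := (Scheme.IdealSheafData.vanishingIdeal T).subschemeι
  have hrange : Set.range i = T := by
    rw [Scheme.IdealSheafData.range_subschemeι]
    exact Scheme.IdealSheafData.coe_support_vanishingIdeal _
  have hred : IsReduced Z := Ega1.ReducedSub.isReduced_subscheme_vanishingIdeal _
  have hne : Nonempty Z := by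
    obtain ⟨x, hx⟩ := hT
    rw [← hrange] at hx
    obtain ⟨z, -⟩ := hx
    exact ⟨z⟩
  have hcpt : CompactSpace Z := i.isClosedEmbedding.compactSpace
  obtain ⟨W, ⟨w, hw⟩, hWi, hWs⟩ := CurvesA.AffCurveGeom.exists_open k Z (i ≫ q)
  let T' : Closeds H := ⟨i '' ((W : Set Z)ᶜ), i.isClosedEmbedding.isClosedMap _ W.isOpen.isClosed_compl⟩
  have hT' : T' < T := by
    rw [lt_iff_le_and_ne]
    refine ⟨?_, fun h => ?_⟩
    · rintro _ ⟨x, -, rfl⟩
      change i x ∈ (T : Set H)
      rw [← hrange]
      exact ⟨x, rfl⟩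
    · have h1 : i w ∈ T := by
        change i w ∈ (T : Set H)
        rw [← hrange]
        exact ⟨w, rfl⟩
      rw [← h] at h1
      obtain ⟨w', hw', hww'⟩ := h1
      have h2 := i.isClosedEmbedding.injective hww'
      subst h2
      exact hw' hw
  obtain ⟨S, hS, hS1, hS2⟩ := ih T' hT'
  have hNZ : IsLocallyNoetherian Z := LocallyOfFiniteType.isLocallyNoetherian (i ≫ q)
  have hNZ' : IsNoetherian Z := { }
  refine ⟨insert (Over.mk (W.ι ≫ i)) S, hS.insert _, ?_, ?_⟩
  · intro g hg
    rcases hg with rfl | hg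
    · refine ⟨?_, hWi, ?_, ?_, ?_⟩
      · change IsImmersion (W.ι ≫ i)
        infer_instance
      · change Smooth ((W.ι ≫ i) ≫ q)
        rw [Category.assoc]
        exact hWs
      · change CompactSpace W
        exact isCompact_iff_compactSpace.1 (NoetherianSpace.isCompact (W : Set Z))
      · change Set.range (W.ι ≫ i) ⊆ T
        rw [← hrange]
        rintro _ ⟨x, rfl⟩
        exact ⟨W.ι x, (Scheme.Hom.comp_apply _ _ _).symm⟩
    · obtain ⟨h1, h2, h3, h4, h5⟩ := hS1 g hg
      exact ⟨h1, h2, h3, h4, h5.trans hT'.le⟩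
  · intro x hx
    have hx' : x ∈ (T : Set H) := hx
    rw [← hrange] at hx'
    obtain ⟨z, rfl⟩ := hx'
    by_cases hz : z ∈ W
    · refine ⟨_, Set.mem_insert _ _, ?_⟩
      change i z ∈ Set.range (W.ι ≫ i)
      exact ⟨⟨z, hz⟩, Scheme.Hom.comp_apply _ _ _⟩
    · obtain ⟨g, hg, hgz⟩ := hS2 (i z) ⟨z, hz, rfl⟩
      exact ⟨g, Set.mem_insert_of_mem _ hg, hgz⟩

end K932.Strata
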