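import Groth.Agent.MorSch.K932.Fam
import Groth.Agent.MorSch.K932.Strata
import Groth.Agent.MorSch.K921.P1Pts
import Groth.Agent.MorSch.K921.P1Tan
import Groth.Agent.CurvesB.HZero
import Groth.Agent.S1697

/-!
# Countably many families of maps from the projective line to a quasi-projective scheme
-/

set_option autoImplicit false
universe u
open CategoryTheory CategoryTheory.Limits AlgebraicGeometry Opposite TopologicalSpace
open Groth.Agent

namespace K932.FamP1

open K921.P1Ideal K932.Fam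

variable (k : Type u) [Field k]

/-- The global sections of an invertible module on a proper scheme are spanned by finitely many sections. -/
theorem exists_gens {Y : Scheme.{u}} (pY : Y ⟶ Spec (CommRingCat.of k)) [IsProper pY] {L : Y.Modules}
    (hL : PicF.IsInvertible L) :
    ∃ (m : ℕ) (b : Fin m → Γ(L, ⊤)), ∀ t : Γ(L, ⊤), ∃ v : Fin m → k, t = ∑ j, ProjUP.toGlobal pY (v j) • b j := by
  let _ : Y.Over (Spec (CommRingCat.of k)) := ⟨pY⟩
  have h1 : IsProper (Y ↘ Spec (CommRingCat.of k)) := ‹IsProper pY›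
  have h2 : Module.Finite k (Coh.HH Y L 0) := S0002.result k Y L (K533.PtTwist.isCoh_aux hL) 0
  obtain ⟨m, c, hc⟩ := Module.Finite.exists_fin (R := k) (M := Coh.HH Y L 0)
  refine ⟨m, fun j => CurvesB.HZero.equivAdd L (c j), fun t => ?_⟩
  have h3 : (CurvesB.HZero.equivAdd L).symm t ∈ Submodule.span k (Set.range c) := by
    rw [hc]
    trivial
  obtain ⟨v, hv⟩ := (Submodule.mem_span_range_iff_exists_fun k).1 h3
  refine ⟨v, ?_⟩
  have h4 := congrArg (CurvesB.HZero.equivAdd L) hv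
  rw [AddEquiv.apply_symm_apply, map_sum] at h4
  rw [← h4]
  exact Finset.sum_congr rfl fun j _ => CurvesB.HZero.equivAdd_smul_over L (v j) (c j)

/-- A family of morphisms from the projective line to `X`, parametrised by a smooth variety. -/
structure RatF {X : Scheme.{u}} (pX : X ⟶ Spec (CommRingCat.of k)) where
  M : Scheme.{u}
  q : M ⟶ Spec (CommRingCat.of k)
  ev : pullback (pP k) q ⟶ X
  comm : ev ≫ pX = pullback.fst (pP k) q ≫ pP k
  smooth : Smooth q
  qc : CompactSpace M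
  integral : IsIntegral M

variable {k} {X : Scheme.{u}} {pX : X ⟶ Spec (CommRingCat.of k)}

/-- The morphism `f` is a member of the family. -/
def RatF.Hits (F : RatF k pX) (f : P1 k ⟶ X) : Prop :=
  ∃ (s : Spec (CommRingCat.of k) ⟶ F.M) (hs : s ≫ F.q = 𝟙 _), slice k (pP k) F.q s hs ≫ F.ev = f

theorem eq_closedPoint (y : ↥(Spec (CommRingCat.of k))) : y = IsLocalRing.closedPoint k :=
  Subsingleton.elim (α := PrimeSpectrum k) _ _

theorem exists_finite [PerfectField k] (N : ℕ) (ι : X ⟶ CohB1.ProjSpace N k) [IsImmersion ι]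
    (hι : ι ≫ CohB1.ProjSpace.toSpec N k = pX) {L : (P1 k).Modules} (hL : PicF.IsInvertible L) :
    ∃ S : Set (RatF k pX), S.Finite ∧ ∀ f : P1 k ⟶ X, f ≫ pX = pP k →
      Nonempty ((Scheme.Modules.pullback (f ≫ ι)).obj (Twist.twistProjSpace N k 1) ≅ L) → ∃ F ∈ S, F.Hits f := by
  obtain ⟨m, b, hb⟩ := exists_gens k (pP k) hL
  obtain ⟨W, r, hr, hW⟩ := exists_family k (pP k) hL b hb N
  let A : Scheme.{u} := 𝔸(ULift.{u} (Fin (N + 1) × Fin m); Spec (CommRingCat.of k))
  let qA : A ⟶ Spec (CommRingCat.of k) := A ↘ Spec (CommRingCat.of k)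
  let qW : (W : Scheme.{u}) ⟶ Spec (CommRingCat.of k) := W.ι ≫ qA
  have hqA : LocallyOfFinitePresentation qA := inferInstance
  have hqW : LocallyOfFiniteType qW := inferInstance
  have hAn : IsLocallyNoetherian A := LocallyOfFiniteType.isLocallyNoetherian qA
  have hAc : CompactSpace A := by
    have : QuasiCompact qA := inferInstance
    exact QuasiCompact.compactSpace_of_compactSpace qA
  have hAN : IsNoetherian A := { }
  have hop : IsOpenMap (pullback.snd (pP k) qW) := (pullback.snd (pP k) qW).isOpenMap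
  have hcl : IsClosedMap (pullback.snd (pP k) qW) := (pullback.snd (pP k) qW).isClosedMap
  obtain ⟨U, C, hU, hC, hUC⟩ := ι.isLocallyClosed_range
  let O : (W : Scheme.{u}).Opens := ⟨((pullback.snd (pP k) qW) '' (r ⁻¹' Uᶜ))ᶜ,
    (hcl _ (hU.isClosed_compl.preimage r.continuous)).isOpen_compl⟩
  have hO : ∀ z : ↥(pullback (pP k) qW), pullback.snd (pP k) qW z ∈ O → r z ∈ U := fun z hz => by
    by_contra h
    exact hz ⟨z, h, rfl⟩
  let T₀ : Closeds (W : Scheme.{u}) := ⟨((pullback.snd (pP k) qW) '' (r ⁻¹' Cᶜ))ᶜ,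
    (hop _ (hC.isOpen_compl.preimage r.continuous)).isClosed_compl⟩
  have hT₀ : ∀ z : ↥(pullback (pP k) qW), pullback.snd (pP k) qW z ∈ T₀ → r z ∈ C := fun z hz => by
    by_contra h
    exact hz ⟨z, h, rfl⟩
  let H : Scheme.{u} := O
  let qH : H ⟶ Spec (CommRingCat.of k) := O.ι ≫ qW
  let T : Closeds H := ⟨O.ι ⁻¹' T₀, T₀.isClosed.preimage O.ι.continuous⟩
  have hHc : CompactSpace H := by
    have hWn : IsLocallyNoetherian W := LocallyOfFiniteType.isLocallyNoetherian qW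
    have hWc : CompactSpace W := isCompact_iff_compactSpace.1 (NoetherianSpace.isCompact (W : Set A))
    have hWN : IsNoetherian W := { }
    exact isCompact_iff_compactSpace.1 (NoetherianSpace.isCompact (O : Set W))
  obtain ⟨S, hS, hS1, hS2⟩ := Strata.exists_strata qH T
  have key : ∀ g : S, ∃ F : RatF k pX, ∀ (f : P1 k ⟶ X) (s : Spec (CommRingCat.of k) ⟶ g.1.left)
      (hs : (s ≫ g.1.hom ≫ O.ι) ≫ qW = 𝟙 _),
      slice k (pP k) qW (s ≫ g.1.hom ≫ O.ι) hs ≫ r = f ≫ ι → F.Hits f := by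
    rintro ⟨g, hg⟩
    obtain ⟨h1, h2, h3, h4, h5⟩ := hS1 g hg
    let q : g.left ⟶ Spec (CommRingCat.of k) := g.hom ≫ qH
    let β : pullback (pP k) q ⟶ pullback (pP k) qW :=
      pullback.lift (pullback.fst _ _) (pullback.snd _ _ ≫ g.hom ≫ O.ι) (by
        rw [pullback.condition, Category.assoc, Category.assoc])
    have hβ1 : β ≫ pullback.fst (pP k) qW = pullback.fst _ _ := pullback.lift_fst _ _ _
    have hβ2 : β ≫ pullback.snd (pP k) qW = pullback.snd _ _ ≫ g.hom ≫ O.ι := pullback.lift_snd _ _ _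
    have hint : IsIntegral (pullback (pP k) q) := K921.P1Pts.isIntegral_prod q
    have hrange : Set.range (β ≫ r) ⊆ Set.range ι := by
      rintro _ ⟨z, rfl⟩
      rw [Scheme.Hom.comp_apply, hUC]
      have h6 : pullback.snd (pP k) qW (β z) = O.ι (g.hom (pullback.snd (pP k) q z)) := by
        rw [← Scheme.Hom.comp_apply, hβ2, Scheme.Hom.comp_apply, Scheme.Hom.comp_apply]
      refine ⟨hO _ ?_, hT₀ _ ?_⟩
      · rw [h6]
        exact (g.hom (pullback.snd (pP k) q z)).2
      · rw [h6]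
        exact h5 ⟨_, rfl⟩
    obtain ⟨e, he⟩ := Ega1.ReducedSub.exists_factor_of_range_subset (β ≫ r) ι hrange
    refine ⟨⟨g.left, q, e, ?_, h3, h4, h2⟩, fun f s hs hf => ⟨s, ?_, ?_⟩⟩
    · rw [← hι, reassoc_of% he, hr]
      change β ≫ pullback.fst (pP k) qW ≫ pP k = _
      rw [reassoc_of% hβ1]
    · change s ≫ g.hom ≫ O.ι ≫ qW = _
      rw [← hs, Category.assoc, Category.assoc]
    · rw [← cancel_mono ι]
      have h7 : s ≫ q = 𝟙 _ := by
        change s ≫ g.hom ≫ O.ι ≫ qW = _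
        rw [← hs, Category.assoc, Category.assoc]
      have h8 : slice k (pP k) q s h7 ≫ β = slice k (pP k) qW (s ≫ g.hom ≫ O.ι) hs := by
        apply pullback.hom_ext
        · rw [Category.assoc, hβ1, slice_fst, slice_fst]
        · rw [Category.assoc, hβ2, slice_snd_assoc, slice_snd]
      change (slice k (pP k) q s h7 ≫ e) ≫ ι = _
      rw [Category.assoc, he, reassoc_of% h8]
      exact hf
  choose F hF using key
  have hSf : Finite S := hS.to_subtype
  refine ⟨Set.range F, Set.finite_range F, fun f hf hfL => ?_⟩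
  obtain ⟨s₀, hs₀, hs₀r⟩ := hW (f ≫ ι) (by rw [Category.assoc, hι, hf]) hfL
  have hz : ∀ z : ↥(pullback (pP k) qW), pullback.snd (pP k) qW z = s₀ (IsLocalRing.closedPoint k) →
      r z ∈ U ∩ C := fun z hz => by
    obtain ⟨x, rfl⟩ := mem_range_slice k (pP k) qW s₀ hs₀ z _ hz
    rw [← Scheme.Hom.comp_apply, ← hUC]
    change (slice k (pP k) _ s₀ hs₀ ≫ r) x ∈ _
    rw [hs₀r, Scheme.Hom.comp_apply]
    exact ⟨_, rfl⟩
  have hsO : s₀ (IsLocalRing.closedPoint k) ∈ O := by
    rintro ⟨z, hz1, hz2⟩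
    exact hz1 (hz z hz2).1
  have hsT : s₀ (IsLocalRing.closedPoint k) ∈ T₀ := by
    rintro ⟨z, hz1, hz2⟩
    exact hz1 (hz z hz2).2
  let s₁ : Spec (CommRingCat.of k) ⟶ H := IsOpenImmersion.lift O.ι s₀ (by
    rintro _ ⟨y, rfl⟩
    rw [Scheme.Opens.range_ι, eq_closedPoint y]
    exact hsO)
  have hs₁ : s₁ ≫ O.ι = s₀ := IsOpenImmersion.lift_fac _ _ _
  obtain ⟨g, hg, hgs⟩ := hS2 (s₁ (IsLocalRing.closedPoint k)) (by
    have h9 : O.ι (s₁ (IsLocalRing.closedPoint k)) = s₀ (IsLocalRing.closedPoint k) := by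
      rw [← hs₁]
      exact (Scheme.Hom.comp_apply s₁ O.ι _).symm
    change O.ι (s₁ (IsLocalRing.closedPoint k)) ∈ T₀
    rw [h9]
    exact hsT)
  obtain ⟨hgi, -⟩ := hS1 g hg
  obtain ⟨s₂, hs₂⟩ := Ega1.ReducedSub.exists_factor_of_range_subset s₁ g.hom (by
    rintro _ ⟨y, rfl⟩
    rw [eq_closedPoint y]
    exact hgs)
  have hs₂' : s₂ ≫ g.hom ≫ O.ι = s₀ := by rw [reassoc_of% hs₂, hs₁]
  refine ⟨F ⟨g, hg⟩, ⟨_, rfl⟩, hF ⟨g, hg⟩ f s₂ (by rw [hs₂']; exact hs₀) ?_⟩
  rw [← hs₀r]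
  congr 1
  apply pullback.hom_ext
  · rw [slice_fst, slice_fst]
  · rw [slice_snd, slice_snd, hs₂']

/-- Countably many families of morphisms from the projective line to a quasi-projective scheme over a perfect field,
containing all of them. -/
theorem exists_countable [PerfectField k]
    (hqp : ∃ (N : ℕ) (ι : X ⟶ CohB1.ProjSpace N k), IsImmersion ι ∧ ι ≫ CohB1.ProjSpace.toSpec N k = pX) :
    ∃ S : Set (RatF k pX), S.Countable ∧ ∀ f : P1 k ⟶ X, f ≫ pX = pP k → ∃ F ∈ S, F.Hits f := by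
  obtain ⟨N, ι, hιi, hι⟩ := hqp
  choose S hS hS' using fun d : ℤ => exists_finite (pX := pX) N ι hι
    (L := Twist.twistProjSpace 1 k d) (K921.P1Tan.isInvertible_O k d)
  refine ⟨⋃ d, S d, Set.countable_iUnion fun d => (hS d).countable, fun f hf => ?_⟩
  obtain ⟨d, ⟨e⟩⟩ := S1697.result k 1 ((Scheme.Modules.pullback (f ≫ ι)).obj (Twist.twistProjSpace N k 1))
    (Ega2.H296.PnGen.isInvertible_pullback_twist (f ≫ ι))
  obtain ⟨F, hF, hFf⟩ := hS' d f hf ⟨e⟩
  exact ⟨F, Set.mem_iUnion.2 ⟨d, hF⟩, hFf⟩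

end K932.FamP1
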