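import Groth.Agent.MorSch.K932.FamP1
import Groth.Agent.MorSch.K921.FamGen
import Groth.Agent.MorSch.K921.TanLift2
import Mathlib.AlgebraicGeometry.AlgClosed.Basic

/-!
# Free and very free members of families of rational curves

* `exists_open_smooth` : generic smoothness of the evaluation map of a smooth family in characteristic zero;
* `isFree_of_meets` : a member of the family meeting this open set is free;
* `isVeryFree_of_mem` : a member of a family with a section contracted to a point is very free, if the evaluation map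
  is smooth at a point of the corresponding fibre;
* `exists_ptFam` : the subfamilies of the members through a given point, with the corresponding section.
-/

set_option autoImplicit false
universe u
open CategoryTheory CategoryTheory.Limits AlgebraicGeometry Opposite TopologicalSpace
open Groth.Agent

namespace K932.FreeOpen

open K921.P1Ideal K932.Fam K932.FamP1 K921.EpsDer

variable {k : Type u} [Field k] {X : Scheme.{u}} {pX : X ⟶ Spec (CommRingCat.of k)}

theorem isSeparated_of_qp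
    (hqp : ∃ (N : ℕ) (ι : X ⟶ CohB1.ProjSpace N k), IsImmersion ι ∧ ι ≫ CohB1.ProjSpace.toSpec N k = pX) :
    IsSeparated pX := by
  obtain ⟨N, ι, hι, rfl⟩ := hqp
  infer_instance

/-- Generic smoothness of the evaluation map. -/
theorem exists_open_smooth [CharZero k] [IsIntegral X] [LocallyOfFiniteType pX] (F : RatF k pX) :
    ∃ V : X.Opens, (V : Set X).Nonempty ∧ Smooth (F.ev ∣_ V) := by
  have h1 := F.smooth
  have h2 := F.qc
  have h3 : QuasiCompact F.q := (quasiCompact_iff_compactSpace F.q).2 h2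
  have h4 : Smooth (pullback.fst (pP k) F.q ≫ pP k) := inferInstance
  have h5 : QuasiCompact (pullback.fst (pP k) F.q ≫ pP k) := inferInstance
  exact K427.GenSmooth.exists_open_smooth_preimage k (pullback.fst (pP k) F.q ≫ pP k) pX F.ev F.comm

theorem exists_mem_preimage (F : RatF k pX) (s : Spec (CommRingCat.of k) ⟶ F.M) (hs : s ≫ F.q = 𝟙 _)
    (V : X.Opens) {p : P1 k} (hp : (slice k (pP k) F.q s hs ≫ F.ev) p ∈ V) :
    ∃ u ∈ F.ev ⁻¹ᵁ V, (pullback.snd (pP k) F.q) u = s (IsLocalRing.closedPoint k) := by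
  refine ⟨slice k (pP k) F.q s hs p, ?_, ?_⟩
  · rw [Scheme.Hom.comp_apply] at hp
    exact hp
  · rw [← Scheme.Hom.comp_apply, slice_snd, Scheme.Hom.comp_apply, eq_closedPoint (pP k p)]

theorem smooth_of_restrict {Y : Scheme.{u}} (e : Y ⟶ X) (V : X.Opens) (h : Smooth (e ∣_ V)) :
    Smooth ((e ⁻¹ᵁ V).ι ≫ e) := by
  rw [← morphismRestrict_ι]
  infer_instance

theorem isFree_of_meets [Infinite k] [Smooth pX] [IsSeparated pX] (F : RatF k pX) (V : X.Opens)
    (hV : Smooth (F.ev ∣_ V)) (f : P1 k ⟶ X) (hf : F.Hits f) (hfV : (Set.range f ∩ V).Nonempty) :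
    MorSch.IsFree pX f := by
  obtain ⟨s, hs, rfl⟩ := hf
  obtain ⟨_, ⟨p, rfl⟩, hp⟩ := hfV
  have h1 := smooth_of_restrict F.ev V hV
  exact K921.FamGen.isFree_of_mem s F.ev F.comm (F.ev ⁻¹ᵁ V) (exists_mem_preimage F s hs V hp)
    (slice k (pP k) F.q s hs) (slice_fst k (pP k) F.q s hs) (slice_snd k (pP k) F.q s hs) hs

/-- A sequence of dense opens out of a countable set of dense opens. -/
theorem exists_seq {Y : Type*} [TopologicalSpace Y] {S : Set (Opens Y)} (hS : S.Countable)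
    (hd : ∀ V ∈ S, Dense (V : Set Y)) :
    ∃ U : ℕ → Opens Y, (∀ n, Dense (U n : Set Y)) ∧ ∀ V ∈ S, ∃ n, U n = V := by
  obtain ⟨U, hU⟩ := (hS.insert ⊤).exists_eq_range ⟨⊤, Set.mem_insert _ _⟩
  refine ⟨U, fun n => ?_, fun V hV => ?_⟩
  · have h1 : U n ∈ insert ⊤ S := by
      rw [hU]
      exact ⟨n, rfl⟩
    rcases h1 with h1 | h1
    · rw [h1]
      exact dense_univ
    · exact hd _ h1
  · have h1 : V ∈ insert ⊤ S := Set.mem_insert_of_mem _ hV
    rw [hU] at h1
    exact h1

/-- If `e : P^1 × M ⟶ X` contracts the section `σ` to the point `x` and is smooth at a point over the rational point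
`m` of `M`, then the member over `m` is very free, unless it is constant. -/
theorem isVeryFree_of_mem [Infinite k] [Smooth pX] [IsSeparated pX] {M : Scheme.{u}}
    {qM : M ⟶ Spec (CommRingCat.of k)} (σ : M ⟶ P1 k) (hσ : σ ≫ pP k = qM) (x : Spec (CommRingCat.of k) ⟶ X)
    (e : pullback (pP k) qM ⟶ X) (he : e ≫ pX = pullback.fst (pP k) qM ≫ pP k)
    (hx : pullback.lift σ (𝟙 M) (by rw [hσ, Category.id_comp]) ≫ e = qM ≫ x)
    (m : Spec (CommRingCat.of k) ⟶ M) (hm : m ≫ qM = 𝟙 _)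
    (U : (pullback (pP k) qM).Opens) [Smooth (U.ι ≫ e)] {p : P1 k} (hp : slice k (pP k) qM m hm p ∈ U)
    (hnc : ¬ ∃ x : X, Set.range (slice k (pP k) qM m hm ≫ e) ⊆ {x}) :
    MorSch.IsVeryFree pX (slice k (pP k) qM m hm ≫ e) := by
  set i := slice k (pP k) qM m hm with hi
  have hi₁ : i ≫ pullback.fst (pP k) qM = 𝟙 _ := slice_fst _ _ _ _ _
  have hi₂ : i ≫ pullback.snd (pP k) qM = pP k ≫ m := slice_snd _ _ _ _ _
  have hf : (i ≫ e) ≫ pX = pP k := by rw [Category.assoc, he, reassoc_of% hi₁]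
  let s : Spec (CommRingCat.of k) ⟶ P1 k := m ≫ σ
  have hs : s ≫ pP k = 𝟙 _ := by rw [Category.assoc, hσ, hm]
  have hsI : IsClosedImmersion s := Picfga.PtEval.isClosedImmersion_of_section hs
  have hscl : IsClosed ({s (IsLocalRing.closedPoint k)} : Set (P1 k)) := by
    have h3 : Set.range s = {s (IsLocalRing.closedPoint k)} := by
      ext y
      constructor
      · rintro ⟨a, rfl⟩
        rw [eq_closedPoint a]
        rfl
      · rintro rfl
        exact ⟨_, rfl⟩
    rw [← h3]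
    exact s.isClosedEmbedding.isClosed_range
  have hne : ({s (IsLocalRing.closedPoint k)}ᶜ : Set (P1 k)).Nonempty := by
    rw [Set.nonempty_compl]
    intro h
    refine hnc ⟨(i ≫ e) (s (IsLocalRing.closedPoint k)), ?_⟩
    rintro _ ⟨y, rfl⟩
    have hy : y ∈ ({s (IsLocalRing.closedPoint k)} : Set (P1 k)) := by
      rw [h]
      trivial
    rw [Set.mem_singleton_iff.1 hy]
    rfl
  let W : (P1 k).Opens := (i ⁻¹ᵁ U) ⊓ ⟨{s (IsLocalRing.closedPoint k)}ᶜ, hscl.isOpen_compl⟩
  have hW : (W : Set (P1 k)).Nonempty :=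
    nonempty_preirreducible_inter (i ⁻¹ᵁ U).isOpen hscl.isOpen_compl ⟨p, hp⟩ hne
  obtain ⟨t, ht, htU, hts⟩ := K921.P1Pts.exists_point_mem W hW
  have hqs : pullback.lift σ (𝟙 M) (by rw [hσ, Category.id_comp]) ≫ pullback.fst (pP k) qM = σ :=
    pullback.lift_fst _ _ _
  have hqs' : pullback.lift σ (𝟙 M) (by rw [hσ, Category.id_comp]) ≫ pullback.snd (pP k) qM = 𝟙 M :=
    pullback.lift_snd _ _ _
  refine K921.TanLift2.isVeryFree_of_lift (i ≫ e) hf t ht s hs (fun h => hts h.symm) fun v hv hv' => ?_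
  obtain ⟨w, hw, hw'⟩ := K921.FamFree.exists_tan_of_smooth e U (t ≫ i)
    (Set.mem_of_eq_of_mem (s := (U : Set _)) (Scheme.Hom.comp_apply t i _) htU) v (by rw [hv', Category.assoc])
  have hwT : w ≫ pullback.fst (pP k) qM ≫ pP k = tT k := by
    rw [← he, reassoc_of% hw, hv]
  have hwM : (w ≫ pullback.snd (pP k) qM) ≫ qM = tT k := by
    rw [Category.assoc, ← pullback.condition, hwT]
  let g : PT (pP k) ⟶ pullback (pP k) qM :=
    pullback.lift (pr (pP k)) (qT (pP k) ≫ w ≫ pullback.snd (pP k) qM)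
      (((pullback.condition (f := pP k) (g := tT k)).trans
        (congrArg (qT (pP k) ≫ ·) hwM.symm)).trans (Category.assoc _ _ _).symm)
  have hg1 : g ≫ pullback.fst (pP k) qM = pr (pP k) := pullback.lift_fst _ _ _
  have hg2 : g ≫ pullback.snd (pP k) qM = qT (pP k) ≫ w ≫ pullback.snd (pP k) qM :=
    pullback.lift_snd _ _ _
  refine ⟨g ≫ e, w ≫ pullback.fst (pP k) qM, w ≫ pullback.snd (pP k) qM ≫ σ, ?_, ?_, ?_, ?_, ?_, ?_, ?_, ?_⟩
  · rw [Category.assoc, he, reassoc_of% hg1]
  · have h1 : i0 (pP k) ≫ g = i := by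
      apply pullback.hom_ext
      · rw [Category.assoc, hg1, i0_pr, hi₁]
      · rw [Category.assoc, hg2, i0_qT_assoc, hi₂, reassoc_of% hw', hi₂, reassoc_of% ht]
    rw [← Category.assoc, h1]
  · rw [Category.assoc, hwT]
  · rw [reassoc_of% hw', hi₁, Category.comp_id]
  · rw [Category.assoc, Category.assoc, hσ, ← pullback.condition, hwT]
  · rw [reassoc_of% hw', reassoc_of% hi₂, reassoc_of% ht]
  · intro hh
    have h1 : pullback.lift (w ≫ pullback.fst (pP k) qM) (𝟙 _) hh ≫ g = w := by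
      apply pullback.hom_ext
      · rw [Category.assoc, hg1]
        exact pullback.lift_fst _ _ _
      · rw [Category.assoc, hg2]
        exact (pullback.lift_snd_assoc _ _ _ _).trans (Category.id_comp _)
    rw [← Category.assoc, h1, hw]
  · intro hh
    have h1 : pullback.lift (w ≫ pullback.snd (pP k) qM ≫ σ) (𝟙 _) hh ≫ g =
        (w ≫ pullback.snd (pP k) qM) ≫ pullback.lift σ (𝟙 M) (by rw [hσ, Category.id_comp]) := by
      apply pullback.hom_ext
      · rw [Category.assoc, hg1, Category.assoc, hqs, Category.assoc]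
        exact pullback.lift_fst _ _ _
      · rw [Category.assoc, hg2, Category.assoc, hqs', Category.comp_id]
        exact (pullback.lift_snd_assoc _ _ _ _).trans (Category.id_comp _)
    have h2 : s ≫ i = m ≫ pullback.lift σ (𝟙 M) (by rw [hσ, Category.id_comp]) := by
      apply pullback.hom_ext
      · rw [Category.assoc, hi₁, Category.comp_id, Category.assoc, hqs]
      · rw [Category.assoc, hi₂, reassoc_of% hs, Category.assoc, hqs', Category.comp_id]
    rw [← Category.assoc, h1, Category.assoc, hx, ← Category.assoc, hwM, reassoc_of% h2, hx, reassoc_of% hm]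

/-- A family of rational curves with a section contracted to the point `x`. -/
structure PtF (x : Spec (CommRingCat.of k) ⟶ X) (pX : X ⟶ Spec (CommRingCat.of k)) where
  G : RatF k pX
  σ : G.M ⟶ P1 k
  hσ : σ ≫ pP k = G.q
  const : pullback.lift σ (𝟙 G.M) (by rw [hσ, Category.id_comp]) ≫ G.ev = G.q ≫ x

theorem exists_ptFam [PerfectField k] [IsSeparated pX] (F : RatF k pX) (x : Spec (CommRingCat.of k) ⟶ X)
    (hx : x ≫ pX = 𝟙 _) :
    ∃ S : Set (PtF x pX), S.Finite ∧ ∀ f : P1 k ⟶ X, F.Hits f → ∀ t : Spec (CommRingCat.of k) ⟶ P1 k,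
      t ≫ pP k = 𝟙 _ → t ≫ f = x → ∃ P ∈ S, P.G.Hits f := by
  have h1 := F.smooth
  have h2 := F.qc
  have h3 : QuasiCompact F.q := (quasiCompact_iff_compactSpace F.q).2 h2
  let qN : pullback (pP k) F.q ⟶ Spec (CommRingCat.of k) := pullback.fst (pP k) F.q ≫ pP k
  have h5 : QuasiCompact qN := inferInstance
  have h6 : CompactSpace ↥(pullback (pP k) F.q) := QuasiCompact.compactSpace_of_compactSpace qN
  have hxI : IsClosedImmersion x := Picfga.PtEval.isClosedImmersion_of_section hx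
  let T : Closeds ↥(pullback (pP k) F.q) := ⟨F.ev ⁻¹' (Set.range x),
    x.isClosedEmbedding.isClosed_range.preimage F.ev.continuous⟩
  obtain ⟨S, hS, hS1, hS2⟩ := Strata.exists_strata qN T
  have key : ∀ g : S, ∃ P : PtF x pX, ∀ (f : P1 k ⟶ X) (m₀ : Spec (CommRingCat.of k) ⟶ F.M) (hm₀ : m₀ ≫ F.q = 𝟙 _)
      (m : Spec (CommRingCat.of k) ⟶ g.1.left) (t : Spec (CommRingCat.of k) ⟶ P1 k), t ≫ pP k = 𝟙 _ →
      m ≫ g.1.hom = t ≫ slice k (pP k) F.q m₀ hm₀ → slice k (pP k) F.q m₀ hm₀ ≫ F.ev = f → P.G.Hits f := by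
    rintro ⟨g, hg⟩
    obtain ⟨g1, g2, g3, g4, g5⟩ := hS1 g hg
    let q : g.left ⟶ Spec (CommRingCat.of k) := g.hom ≫ qN
    let σ : g.left ⟶ P1 k := g.hom ≫ pullback.fst (pP k) F.q
    have hσ : σ ≫ pP k = q := Category.assoc _ _ _
    let β : pullback (pP k) q ⟶ pullback (pP k) F.q :=
      pullback.lift (pullback.fst _ _) (pullback.snd _ _ ≫ g.hom ≫ pullback.snd (pP k) F.q) (by
        rw [Category.assoc, Category.assoc, ← pullback.condition (f := pP k) (g := F.q)]
        exact pullback.condition)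
    have hβ1 : β ≫ pullback.fst (pP k) F.q = pullback.fst _ _ := pullback.lift_fst _ _ _
    have hβ2 : β ≫ pullback.snd (pP k) F.q = pullback.snd _ _ ≫ g.hom ≫ pullback.snd (pP k) F.q :=
      pullback.lift_snd _ _ _
    have hqs : pullback.lift σ (𝟙 g.left) (by rw [hσ, Category.id_comp]) ≫ pullback.fst (pP k) q = σ :=
      pullback.lift_fst _ _ _
    have hqs' : pullback.lift σ (𝟙 g.left) (by rw [hσ, Category.id_comp]) ≫ pullback.snd (pP k) q = 𝟙 _ :=
      pullback.lift_snd _ _ _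
    have hσβ : pullback.lift σ (𝟙 g.left) (by rw [hσ, Category.id_comp]) ≫ β = g.hom := by
      apply pullback.hom_ext
      · rw [Category.assoc, hβ1, hqs]
      · rw [Category.assoc, hβ2, reassoc_of% hqs']
    obtain ⟨c, hc⟩ := Ega1.ReducedSub.exists_factor_of_range_subset (g.hom ≫ F.ev) x (by
      rintro _ ⟨z, rfl⟩
      rw [Scheme.Hom.comp_apply]
      exact g5 ⟨z, rfl⟩)
    have hcq : c = q := by
      calc c = c ≫ x ≫ pX := by rw [hx, Category.comp_id]
        _ = q := by rw [reassoc_of% hc, F.comm]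
    refine ⟨⟨⟨g.left, q, β ≫ F.ev, ?_, g3, g4, g2⟩, σ, hσ, ?_⟩, fun f m₀ hm₀ m t ht hmt hf => ?_⟩
    · rw [Category.assoc, F.comm, reassoc_of% hβ1]
    · change pullback.lift σ (𝟙 g.left) _ ≫ β ≫ F.ev = q ≫ x
      rw [reassoc_of% hσβ, ← hc, hcq]
    · have hmq : m ≫ q = 𝟙 _ := by
        change m ≫ g.hom ≫ qN = _
        rw [reassoc_of% hmt]
        change t ≫ slice k (pP k) F.q m₀ hm₀ ≫ pullback.fst (pP k) F.q ≫ pP k = _
        rw [slice_fst_assoc, ht]
      refine ⟨m, hmq, ?_⟩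
      change slice k (pP k) q m hmq ≫ β ≫ F.ev = f
      have h8 : slice k (pP k) q m hmq ≫ β = slice k (pP k) F.q m₀ hm₀ := by
        apply pullback.hom_ext
        · rw [Category.assoc, hβ1, slice_fst, slice_fst]
        · rw [Category.assoc, hβ2, slice_snd_assoc, slice_snd, reassoc_of% hmt, slice_snd, reassoc_of% ht]
      rw [reassoc_of% h8, hf]
  choose P hP using key
  have hSf : Finite S := hS.to_subtype
  refine ⟨Set.range P, Set.finite_range P, ?_⟩
  rintro f ⟨m₀, hm₀, hf⟩ t ht htx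
  obtain ⟨g, hg, hgs⟩ := hS2 ((t ≫ slice k (pP k) F.q m₀ hm₀) (IsLocalRing.closedPoint k)) (by
    have h9 : F.ev ((t ≫ slice k (pP k) F.q m₀ hm₀) (IsLocalRing.closedPoint k)) =
        x (IsLocalRing.closedPoint k) :=
      (Scheme.Hom.comp_apply _ _ _).symm.trans (congrArg
        (fun φ : Spec (CommRingCat.of k) ⟶ X => φ (IsLocalRing.closedPoint k)) (by rw [Category.assoc, hf, htx]))
    exact ⟨_, h9.symm⟩)
  obtain ⟨hgi, -⟩ := hS1 g hg
  obtain ⟨m, hm⟩ := Ega1.ReducedSub.exists_factor_of_range_subset (t ≫ slice k (pP k) F.q m₀ hm₀) g.hom (by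
    rintro _ ⟨y, rfl⟩
    rw [eq_closedPoint y]
    exact hgs)
  exact ⟨P ⟨g, hg⟩, ⟨_, rfl⟩, hP ⟨g, hg⟩ f m₀ hm₀ m t ht hm hf⟩

end K932.FreeOpen
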