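import Groth.Agent.MorSch.K314.MorScheme

/-!
# The scheme of morphisms into an open subscheme
-/

set_option autoImplicit false
universe u
open CategoryTheory CategoryTheory.Limits AlgebraicGeometry Opposite TopologicalSpace
open Groth.Agent

namespace K932.MorOpen

open K314.MorScheme

/-- The scheme of morphisms into an open subscheme is an open subscheme of the scheme of morphisms. -/
theorem exists_isMor_open {S C X M P : Scheme.{u}} {c : C ⟶ S} [UniversallyClosed c] {f : X ⟶ S} {m : M ⟶ S}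
    {pc : P ⟶ C} {pm : P ⟶ M} {u : P ⟶ X} (hM : IsMor c f m pc pm u) {Y : Scheme.{u}} (j : Y ⟶ X)
    [IsOpenImmersion j] :
    ∃ (M₀ : M.Opens) (u₀ : pullback pm M₀.ι ⟶ Y), u₀ ≫ j = pullback.fst pm M₀.ι ≫ u ∧
      IsMor c (j ≫ f) (M₀.ι ≫ m) (pullback.fst pm M₀.ι ≫ pc) (pullback.snd pm M₀.ι) u₀ := by
  have hpm : UniversallyClosed pm := MorphismProperty.of_isPullback hM.sq inferInstance
  let M₀ : M.Opens := ⟨(pm '' (u ⁻¹' (Set.range j)ᶜ))ᶜ,
    (pm.isClosedMap _ (j.isOpenEmbedding.isOpen_range.isClosed_compl.preimage u.continuous)).isOpen_compl⟩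
  have hM₀ : ∀ z : P, pm z ∈ M₀ → u z ∈ Set.range j := fun z hz => by
    by_contra h
    exact hz ⟨z, h, rfl⟩
  have hr : Set.range (pullback.fst pm M₀.ι ≫ u) ⊆ Set.range j := by
    rintro _ ⟨z, rfl⟩
    rw [Scheme.Hom.comp_apply]
    refine hM₀ _ ?_
    rw [← Scheme.Hom.comp_apply, pullback.condition, Scheme.Hom.comp_apply]
    exact (pullback.snd pm M₀.ι z).2
  let u₀ : pullback pm M₀.ι ⟶ Y := IsOpenImmersion.lift j (pullback.fst pm M₀.ι ≫ u) hr
  have hu₀ : u₀ ≫ j = pullback.fst pm M₀.ι ≫ u := IsOpenImmersion.lift_fac _ _ _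
  have sq₀ : IsPullback (pullback.fst pm M₀.ι) (pullback.snd pm M₀.ι) pm M₀.ι := IsPullback.of_hasPullback _ _
  refine ⟨M₀, u₀, hu₀, sq₀.paste_horiz hM.sq, ?_, ?_⟩
  · rw [reassoc_of% hu₀, hM.comm, pullback.condition_assoc]
  · intro T Q _ t qc qt hsq a ha
    obtain ⟨g, ⟨hg1, hg2⟩, hg3⟩ := hM.existsUnique t qc qt hsq (a ≫ j) (by rw [Category.assoc, ha])
    have w : qc ≫ c = (qt ≫ g) ≫ m := by rw [hsq.w, Category.assoc, hg1]
    let h : Q ⟶ P := hM.sq.lift qc (qt ≫ g) w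
    have h1 : h ≫ pc = qc := hM.sq.lift_fst _ _ _
    have h2 : h ≫ pm = qt ≫ g := hM.sq.lift_snd _ _ _
    have hu : h ≫ u = a ≫ j := hg2 h h1 h2
    have hsqh : IsPullback h qt pm g := by
      refine IsPullback.of_right (h₁₂ := pc) (h₂₂ := m) (v₁₃ := c) ?_ h2 hM.sq
      rw [h1, hg1]
      exact hsq
    have hgr : Set.range g ⊆ Set.range M₀.ι := by
      rintro _ ⟨τ, rfl⟩
      rw [Scheme.Opens.range_ι]
      rintro ⟨z, hz, hzτ⟩
      obtain ⟨q, hq, -⟩ := Scheme.Pullback.exists_preimage_pullback (f := pm) (g := g) z τ hzτ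
      refine hz ?_
      have h3 : h (hsqh.isoPullback.inv q) = z := by
        rw [← Scheme.Hom.comp_apply, hsqh.isoPullback_inv_fst, hq]
      rw [← h3, ← Scheme.Hom.comp_apply, hu, Scheme.Hom.comp_apply]
      exact ⟨_, rfl⟩
    let g₀ : T ⟶ M₀ := IsOpenImmersion.lift M₀.ι g hgr
    have hg₀ : g₀ ≫ M₀.ι = g := IsOpenImmersion.lift_fac _ _ _
    refine ⟨g₀, ⟨by rw [reassoc_of% hg₀, hg1], fun h₀ hh1 hh2 => ?_⟩, ?_⟩
    · rw [← cancel_mono j, Category.assoc, hu₀, ← Category.assoc]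
      refine hg2 _ (by rw [Category.assoc]; exact hh1) ?_
      rw [Category.assoc, pullback.condition, ← Category.assoc, hh2, Category.assoc, hg₀]
    · rintro g' ⟨hg'1, hg'2⟩
      rw [← cancel_mono M₀.ι, hg₀]
      refine hg3 _ ⟨by rw [Category.assoc, hg'1], fun h' hh1 hh2 => ?_⟩
      have hh : (pullback.lift h' (qt ≫ g') (by rw [hh2, Category.assoc]) : Q ⟶ pullback pm M₀.ι) ≫ u₀ = a :=
        hg'2 _ (by rw [pullback.lift_fst_assoc, hh1]) (pullback.lift_snd _ _ _)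
      rw [← hh, Category.assoc, hu₀, pullback.lift_fst_assoc]

end K932.MorOpen
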