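import Groth.Agent.MorSch.K921.P1Tan
import Groth.Agent.SDiv.K476.HomSh5
import Groth.Agent.Smoothlim.ConormalRes
import Groth.Prelude.Def_MorSch

/-!
# Free curves and open subschemes

For an open immersion `j : Y ⟶ X` over `S`, a rational curve on `Y` is free (`r`-free, very free) for `Y` if and only if
it is so as a curve on `X`. Nothing is assumed on the singularities of `X`.
-/

set_option autoImplicit false
universe u
open CategoryTheory CategoryTheory.Limits AlgebraicGeometry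
open Groth.Agent Groth.Agent.Ega2.Tens

namespace K932.OpenFree

open K921.P1Tan

/-- The pull-back of the tangent sheaf is not changed by passing to an open subscheme. -/
theorem nonempty_iso {X Y S P : Scheme.{u}} (q : X ⟶ S) [QuasiSeparated q] (j : Y ⟶ X) [IsOpenImmersion j]
    (g : P ⟶ Y) :
    Nonempty ((Scheme.Modules.pullback g).obj (RefHull.dual (Omega.sheaf (j ≫ q))) ≅
      (Scheme.Modules.pullback (g ≫ j)).obj (RefHull.dual (Omega.sheaf q))) := by
  let e0 : (Scheme.Modules.pullback j).obj (Omega.sheaf q) ≅ Omega.sheaf (j ≫ q) :=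
    Smoothlim.ConormalRes.omegaRestrictIso (f := q) (f' := j ≫ q) (j := j) (l := 𝟙 S) (by rw [Category.comp_id])
  let e1 : (Omega.sheaf q).restrict j ≅ Omega.sheaf (j ≫ q) :=
    (Scheme.Modules.restrictFunctorIsoPullback j).app (Omega.sheaf q) ≪≫ e0
  let e2 : (RefHull.dual (Omega.sheaf q)).restrict j ≅ RefHull.dual (Omega.sheaf (j ≫ q)) :=
    K476.HomSh5.restrictDual j (Omega.sheaf q) ≪≫ K476.HomSh1.dualIso e1
  let e3 : (Scheme.Modules.pullback j).obj (RefHull.dual (Omega.sheaf q)) ≅ RefHull.dual (Omega.sheaf (j ≫ q)) :=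
    ((Scheme.Modules.restrictFunctorIsoPullback j).app (RefHull.dual (Omega.sheaf q))).symm ≪≫ e2
  exact ⟨(Scheme.Modules.pullback g).mapIso e3.symm ≪≫
    (Scheme.Modules.pullbackComp g j).app (RefHull.dual (Omega.sheaf q))⟩

variable {k : Type u} [Field k] {X Y : Scheme.{u}} (pX : X ⟶ Spec (CommRingCat.of k))

/-- Free curves on an open subscheme. -/
theorem isFree_iff [QuasiSeparated pX] (j : Y ⟶ X) [IsOpenImmersion j] (g : CohB1.ProjSpace 1 k ⟶ Y) :
    MorSch.IsFree (j ≫ pX) g ↔ MorSch.IsFree pX (g ≫ j) := by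
  obtain ⟨e⟩ := nonempty_iso pX j g
  exact ⟨isGG_of_iso e, isGG_of_iso e.symm⟩

/-- `r`-free curves on an open subscheme. -/
theorem isRFree_iff [QuasiSeparated pX] (j : Y ⟶ X) [IsOpenImmersion j] (g : CohB1.ProjSpace 1 k ⟶ Y) (r : ℤ) :
    MorSch.IsRFree (j ≫ pX) g r ↔ MorSch.IsRFree pX (g ≫ j) r := by
  obtain ⟨e⟩ := nonempty_iso pX j g
  exact ⟨isGG_of_iso (mapTIso e (Iso.refl _)), isGG_of_iso (mapTIso e.symm (Iso.refl _))⟩

/-- Very free curves on an open subscheme. -/
theorem isVeryFree_iff [QuasiSeparated pX] (j : Y ⟶ X) [IsOpenImmersion j] (g : CohB1.ProjSpace 1 k ⟶ Y) :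
    MorSch.IsVeryFree (j ≫ pX) g ↔ MorSch.IsVeryFree pX (g ≫ j) :=
  isRFree_iff pX j g 1

end K932.OpenFree
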