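import Groth.Agent.MorSch.K932.RCOpen
import Groth.Agent.Etcore.SmoothRed
import Groth.Agent.CurvesA.AffCurveGeom
import Groth.Agent.S1582

/-!
# A very free curve makes a projective variety separably rationally connected

* `exists_integral_open` : a nonempty open subset of the smooth locus contains an open variety;
* `isSepRatConn` : the open family of very free curves has a doubled evaluation map which is dominant and smooth on a dense
  open subset.
-/

set_option autoImplicit false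
universe u
open CategoryTheory CategoryTheory.Limits AlgebraicGeometry Opposite TopologicalSpace

namespace K932.RCFam

open Groth.Agent Groth.Agent.CohqB.ProjBC
open K921.P1Ideal K921.P1Pts K921.NonConst K314.MorScheme K932.EvTwo K932.RCOpen

variable {k : Type u} [Field k]

/-- A nonempty open subset of the smooth locus contains an open variety. -/
theorem exists_integral_open [IsAlgClosed k] {M : Scheme.{u}} (m : M ⟶ Spec (CommRingCat.of k)) [LocallyOfFiniteType m]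
    (O : M.Opens) (hO : (O : Set M).Nonempty) (hOs : O ≤ m.smoothLocus) :
    ∃ (W : Scheme.{u}) (ω : W ⟶ M), IsOpenImmersion ω ∧ Set.range ω ⊆ (O : Set M) ∧ MorSch.IsVar k (ω ≫ m) := by
  have hfp : LocallyOfFinitePresentation m := LocallyOfFinitePresentation.iff_locallyOfFiniteType.2 inferInstance
  obtain ⟨x, hx⟩ := hO
  obtain ⟨Z, hZ, hxZ, hZO⟩ := exists_isAffineOpen_mem_and_subset hx
  have hZa : IsAffine Z := hZ
  have hs : Smooth (m.smoothLocus.ι ≫ m) := K633.SmallExtPt.smooth_smoothLocus m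
  have hsZ : Smooth (Z.ι ≫ m) := by
    have h1 : Z.ι ≫ m = M.homOfLE (le_trans hZO hOs) ≫ m.smoothLocus.ι ≫ m := by
      rw [Scheme.homOfLE_ι_assoc]
    rw [h1]
    infer_instance
  have hred : IsReduced (Z : Scheme.{u}) := Etcore.SmoothRed.isReduced_of_smooth (Z.ι ≫ m)
  have hne : Nonempty ↥(Z : Scheme.{u}) := ⟨⟨x, hxZ⟩⟩
  have hN : IsLocallyNoetherian (Z : Scheme.{u}) := LocallyOfFiniteType.isLocallyNoetherian (Z.ι ≫ m)
  obtain ⟨W, hW, hWi, hWs⟩ := CurvesA.AffCurveGeom.exists_open k (Z : Scheme.{u}) (Z.ι ≫ m)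
  refine ⟨W, W.ι ≫ Z.ι, inferInstance, ?_, hWi, ?_, inferInstance, ?_⟩
  · rintro _ ⟨y, rfl⟩
    rw [Scheme.Hom.comp_apply]
    exact hZO (W.ι y).2
  · rw [Category.assoc]
    infer_instance
  · rw [Category.assoc]
    infer_instance

/-- **Separable rational connectedness from a very free curve.** -/
theorem isSepRatConn [IsAlgClosed k] {X Y M P : Scheme.{u}} (pX : X ⟶ Spec (CommRingCat.of k)) [IsIntegral X]
    [IsProper pX] (j : Y ⟶ X)
    [IsOpenImmersion j] [IsIntegral Y] [Smooth (j ≫ pX)] [IsSeparated (j ≫ pX)]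
    {m : M ⟶ Spec (CommRingCat.of k)} [LocallyOfFiniteType m] {pc : P ⟶ P1 k} {pm : P ⟶ M} {u : P ⟶ Y}
    (hM : IsMor (pP k) (j ≫ pX) m pc pm u) (f : P1 k ⟶ Y) (hf : f ≫ j ≫ pX = pP k)
    (hnc : ¬ ∃ x : Y, Set.range f ⊆ {x}) (hvf : MorSch.IsVeryFree (j ≫ pX) f) : MorSch.IsSepRatConn k pX := by
  have hlfp := EvUse.lfp_ev2 hM.sq hM.comm
  obtain ⟨μ, δ, -, h2, h3, -, h5⟩ := EvUse.exists_delta hM f hf hnc hvf
  have hμs : μ (IsLocalRing.closedPoint k) ∈ m.smoothLocus :=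
    K314.MorSmooth.mem_smoothLocus hM 0 (by norm_num) _ h5
  let V : (pullback pm pm).Opens := (ev2 hM.comm).smoothLocus
  have hV : Smooth (V.ι ≫ ev2 hM.comm) := K633.SmallExtPt.smooth_smoothLocus _
  have hPs : Smooth (pP k) := Gaga.H364.ProjRed.smooth_toSpec 1 k
  have hpm : Smooth pm := MorphismProperty.of_isPullback (P := @Smooth) hM.sq hPs
  let q2 : pullback pm pm ⟶ M := pullback.fst pm pm ≫ pm
  have hq2 : Smooth q2 := inferInstance
  let O : M.Opens := ⟨q2 '' V, q2.isOpenMap _ V.isOpen⟩ ⊓ m.smoothLocus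
  have hO : (O : Set M).Nonempty := by
    refine ⟨μ (IsLocalRing.closedPoint k), ⟨δ (IsLocalRing.closedPoint k), h3, ?_⟩, hμs⟩
    exact (Scheme.Hom.comp_apply δ q2 (IsLocalRing.closedPoint k)).symm.trans
      (congrArg (fun z : Spec (CommRingCat.of k) ⟶ M => z (IsLocalRing.closedPoint k)) h2)
  obtain ⟨W, ω, hω, hωO, hvar⟩ := exists_integral_open m O hO inf_le_right
  have hWi : IsIntegral W := hvar.1
  have hWf : LocallyOfFiniteType (ω ≫ m) := hvar.2.2.1
  have hθw : pullback.fst (pP k) (ω ≫ m) ≫ pP k = (pullback.snd (pP k) (ω ≫ m) ≫ ω) ≫ m := by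
    rw [pullback.condition, Category.assoc]
  let θ : pullback (pP k) (ω ≫ m) ⟶ P := hM.sq.lift (pullback.fst _ _) (pullback.snd _ _ ≫ ω) hθw
  have hθ1 : θ ≫ pc = pullback.fst _ _ := hM.sq.lift_fst _ _ _
  have hθ2 : θ ≫ pm = pullback.snd _ _ ≫ ω := hM.sq.lift_snd _ _ _
  have sqθ : IsPullback θ (pullback.snd (pP k) (ω ≫ m)) pm ω := by
    refine IsPullback.of_right (h₁₂ := pc) (h₂₂ := m) (v₁₃ := pP k) ?_ hθ2 hM.sq
    rw [hθ1]
    exact IsPullback.of_hasPullback _ _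
  have hθo : IsOpenImmersion θ := MorphismProperty.of_isPullback (P := @IsOpenImmersion) sqθ.flip hω
  let F : MorSch.RatFam k pX :=
    { M := W
      m := ω ≫ m
      isVar := hvar
      e := (θ ≫ u ≫ j).toPartialMap
      comm := by
        change ((Scheme.topIso _).hom ≫ θ ≫ u ≫ j) ≫ pX = (⊤ : (pullback (pP k) (ω ≫ m)).Opens).ι ≫ _
        rw [Category.assoc, Category.assoc, Category.assoc, hM.comm, ← hM.sq.w, reassoc_of% hθ1]
        rfl }
  have hι : F.e.hom = F.e.domain.ι ≫ θ ≫ u ≫ j := rfl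
  have htoM : F.toM = F.e.domain.ι ≫ pullback.snd (pP k) (ω ≫ m) := rfl
  have hιo : IsIso F.e.domain.ι := inferInstanceAs (IsIso (Scheme.topIso _).hom)
  let a : (F.e.domain : Scheme.{u}) ⟶ P := F.e.domain.ι ≫ θ
  have haM : F.toM ≫ ω = a ≫ pm := by
    change (F.e.domain.ι ≫ pullback.snd (pP k) (ω ≫ m)) ≫ ω = (F.e.domain.ι ≫ θ) ≫ pm
    rw [Category.assoc, Category.assoc, hθ2]
  have hao : IsOpenImmersion a := inferInstanceAs (IsOpenImmersion (F.e.domain.ι ≫ θ))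
  let c : pullback F.toM F.toM ⟶ pullback pm pm := pullback.map F.toM F.toM pm pm a a ω haM haM
  have hc1 : c ≫ pullback.fst pm pm = pullback.fst F.toM F.toM ≫ a := pullback.lift_fst _ _ _
  have hc2 : c ≫ pullback.snd pm pm = pullback.snd F.toM F.toM ≫ a := pullback.lift_snd _ _ _
  have hco : IsOpenImmersion c := inferInstance
  have hev : F.ev₂ = c ≫ ev2 hM.comm ≫ prodMap pX j := by
    apply pullback.hom_ext
    · rw [MorSch.RatFam.ev₂_fst, Category.assoc, Category.assoc, prodMap_fst, ev2_fst_assoc, reassoc_of% hc1, hι]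
      simp only [a, Category.assoc]
    · rw [MorSch.RatFam.ev₂_snd, Category.assoc, Category.assoc, prodMap_snd, ev2_snd_assoc, reassoc_of% hc2, hι]
      simp only [a, Category.assoc]
  -- a point of the double family
  obtain ⟨w₀⟩ : Nonempty W := inferInstance
  obtain ⟨⟨z, hz, hzw⟩, -⟩ := hωO ⟨w₀, rfl⟩
  obtain ⟨K, _, r, hr⟩ := K921.DoubFam.exists_field_point _ z
  obtain ⟨l, hl⟩ : ∃ l : Spec (CommRingCat.of K) ⟶ W, l ≫ ω = r ≫ q2 := by
    refine ⟨IsOpenImmersion.lift ω (r ≫ q2) ?_, IsOpenImmersion.lift_fac _ _ _⟩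
    rintro _ ⟨x, rfl⟩
    have hx : x = IsLocalRing.closedPoint K := Subsingleton.elim (α := PrimeSpectrum K) _ _
    refine ⟨w₀, ?_⟩
    rw [hx, ← hzw, ← hr]
    exact (Scheme.Hom.comp_apply _ _ _).symm
  have hlift : ∀ p : pullback pm pm ⟶ P, r ≫ p ≫ pm = r ≫ q2 →
      ∃ b : Spec (CommRingCat.of K) ⟶ (F.e.domain : Scheme.{u}), b ≫ a = r ≫ p ∧ b ≫ F.toM = l := by
    intro p hp
    have hw : (r ≫ p ≫ pc) ≫ pP k = l ≫ ω ≫ m := by
      rw [Category.assoc, Category.assoc, hM.sq.w, reassoc_of% hp, reassoc_of% hl]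
    let b₀ : Spec (CommRingCat.of K) ⟶ pullback (pP k) (ω ≫ m) := pullback.lift (r ≫ p ≫ pc) l hw
    have hb1 : b₀ ≫ pullback.fst _ _ = r ≫ p ≫ pc := pullback.lift_fst _ _ _
    have hb2 : b₀ ≫ pullback.snd _ _ = l := pullback.lift_snd _ _ _
    have hbθ : b₀ ≫ θ = r ≫ p := by
      apply hM.sq.hom_ext
      · rw [Category.assoc, hθ1, hb1, Category.assoc]
      · rw [Category.assoc, hθ2, reassoc_of% hb2, hl, Category.assoc, hp]
    refine ⟨b₀ ≫ inv F.e.domain.ι, ?_, ?_⟩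
    · change (b₀ ≫ inv F.e.domain.ι) ≫ F.e.domain.ι ≫ θ = _
      rw [Category.assoc, IsIso.inv_hom_id_assoc, hbθ]
    · change (b₀ ≫ inv F.e.domain.ι) ≫ F.e.domain.ι ≫ pullback.snd (pP k) (ω ≫ m) = _
      rw [Category.assoc, IsIso.inv_hom_id_assoc, hb2]
  obtain ⟨b₁, hb₁, hb₁'⟩ := hlift (pullback.fst pm pm) rfl
  obtain ⟨b₂, hb₂, hb₂'⟩ := hlift (pullback.snd pm pm) (by
    change r ≫ pullback.snd pm pm ≫ pm = r ≫ pullback.fst pm pm ≫ pm
    rw [pullback.condition])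
  let d : Spec (CommRingCat.of K) ⟶ pullback F.toM F.toM := pullback.lift b₁ b₂ (by rw [hb₁', hb₂'])
  have hdc : d ≫ c = r := by
    apply pullback.hom_ext
    · rw [Category.assoc, hc1, pullback.lift_fst_assoc, hb₁]
    · rw [Category.assoc, hc2, pullback.lift_snd_assoc, hb₂]
  have hdV : d (IsLocalRing.closedPoint K) ∈ c ⁻¹ᵁ V := by
    change c (d (IsLocalRing.closedPoint K)) ∈ V
    have h8 : c (d (IsLocalRing.closedPoint K)) = z :=
      (Scheme.Hom.comp_apply d c (IsLocalRing.closedPoint K)).symm.trans (by rw [hdc, hr])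
    rw [h8]
    exact hz
  have hUne : (F.e.domain : Set ↥(pullback (pP k) (ω ≫ m))).Nonempty :=
    ⟨_, (b₁ (IsLocalRing.closedPoint K)).2⟩
  have hD : IsIntegral (pullback F.toM F.toM) :=
    K921.DoubFam.isIntegral_double (m := ω ≫ m) (U := F.e.domain) hUne
  have hVs : Smooth ((c ⁻¹ᵁ V).ι ≫ F.ev₂) := by
    have h9 : (c ⁻¹ᵁ V).ι ≫ F.ev₂ = (c ∣_ V) ≫ (V.ι ≫ ev2 hM.comm) ≫ prodMap pX j := by
      rw [hev, ← morphismRestrict_ι_assoc, Category.assoc]
    rw [h9]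
    infer_instance
  refine ⟨F, ?_, c ⁻¹ᵁ V, (c ⁻¹ᵁ V).isOpen.dense ⟨_, hdV⟩, hVs⟩
  have hXX : IsIntegral (pullback pX pX) := Groth.Agent.S1582.result k X X pX pX
  refine ⟨?_⟩
  have h10 : IsOpen (Set.range ((c ⁻¹ᵁ V).ι ≫ F.ev₂)) := ((c ⁻¹ᵁ V).ι ≫ F.ev₂).isOpenMap.isOpen_range
  have h11 : Dense (Set.range ((c ⁻¹ᵁ V).ι ≫ F.ev₂)) := h10.dense ⟨_, ⟨⟨_, hdV⟩, rfl⟩⟩
  refine h11.mono ?_
  rintro _ ⟨y, rfl⟩
  rw [Scheme.Hom.comp_apply]
  exact ⟨_, rfl⟩

end K932.RCFam
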