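import Groth.Agent.MorSch.K932.EvUse
import Groth.Agent.MorSch.K932.MorOpen
import Groth.Agent.MorSch.K932.OpenFree
import Groth.Agent.MorSch.K314.MorProj

/-!
# Very free curves through a general pair of points

* `exists_mor_open` : the scheme of morphisms from `P¹` to an open subscheme of a projective scheme;
* `exists_open_pair` : a nonconstant very free curve on a smooth open subscheme `Y` of `X` gives very free curves through a
  general pair of points.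
-/

set_option autoImplicit false
universe u
open CategoryTheory CategoryTheory.Limits AlgebraicGeometry Opposite TopologicalSpace

namespace K932.RCOpen

open Groth.Agent Groth.Agent.CohqB.ProjBC
open K921.P1Ideal K921.P1Pts K921.NonConst K314.MorScheme K932.EvTwo

variable {k : Type u} [Field k]

/-- The scheme of morphisms from `P¹` to an open subscheme of a projective scheme. -/
theorem exists_mor_open {X : Scheme.{u}} (pX : X ⟶ Spec (CommRingCat.of k))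
    (hproj : ∃ (N : ℕ) (ι : X ⟶ CohB1.ProjSpace N k), IsClosedImmersion ι ∧ ι ≫ CohB1.ProjSpace.toSpec N k = pX)
    {Y : Scheme.{u}} (j : Y ⟶ X) [IsOpenImmersion j] :
    ∃ (M : Scheme.{u}) (m : M ⟶ Spec (CommRingCat.of k)) (P : Scheme.{u}) (pc : P ⟶ P1 k) (pm : P ⟶ M) (u : P ⟶ Y),
      LocallyOfFiniteType m ∧ IsMor (pP k) (j ≫ pX) m pc pm u := by
  obtain ⟨N, ι, hι, h⟩ := hproj
  obtain ⟨M, m, P, pc, pm, u, hm, hM⟩ := K314.MorProj.exists_mor k pX N ι h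
  have hc : IsProper (pP k) := Dix.ProjProper.isProper_toSpec 1 k
  obtain ⟨M₀, u₀, -, hM₀⟩ := MorOpen.exists_isMor_open hM j
  exact ⟨M₀, M₀.ι ≫ m, _, _, _, u₀, inferInstance, hM₀⟩

section

variable {X M P : Scheme.{u}} {pX : X ⟶ Spec (CommRingCat.of k)}
  {m : M ⟶ Spec (CommRingCat.of k)} {pc : P ⟶ P1 k} {pm : P ⟶ M} {u : P ⟶ X}

theorem sec_comp (sq : IsPullback pc pm (pP k) m) (δ : Spec (CommRingCat.of k) ⟶ pullback pm pm)
    (hδ : δ ≫ pullback.fst pm pm ≫ pm ≫ m = 𝟙 _) (h : P1 k ⟶ P) (hh1 : h ≫ pc = 𝟙 _)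
    (hh2 : h ≫ pm = pP k ≫ δ ≫ pullback.fst pm pm ≫ pm) (p : pullback pm pm ⟶ P)
    (hp : δ ≫ p ≫ pm = δ ≫ pullback.fst pm pm ≫ pm) :
    (δ ≫ p ≫ pc) ≫ pP k = 𝟙 _ ∧ (δ ≫ p ≫ pc) ≫ h = δ ≫ p := by
  have h1 : (δ ≫ p ≫ pc) ≫ pP k = 𝟙 _ := by
    rw [Category.assoc, Category.assoc, sq.w, reassoc_of% hp, hδ]
  refine ⟨h1, ?_⟩
  apply sq.hom_ext
  · rw [Category.assoc, hh1, Category.comp_id, Category.assoc]
  · rw [Category.assoc, hh2, ← Category.assoc (δ ≫ p ≫ pc), h1, Category.id_comp, Category.assoc, hp]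

theorem not_mem_diag [IsSeparated pX] (comm : u ≫ pX = pm ≫ m) (z : ↥(pullback pm pm))
    (h : (pullback.fst pm pm ≫ u) z ≠ (pullback.snd pm pm ≫ u) z) :
    ev2 comm z ∉ Set.range (pullback.diagonal pX) := by
  rintro ⟨y, hy⟩
  apply h
  have h1 : (pullback.fst pm pm ≫ u) z = y := by
    rw [← ev2_fst comm]
    refine (Scheme.Hom.comp_apply (ev2 comm) (pullback.fst pX pX) z).trans ?_
    rw [← hy]
    refine (Scheme.Hom.comp_apply (pullback.diagonal pX) (pullback.fst pX pX) y).symm.trans ?_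
    rw [pullback.diagonal_fst]
    rfl
  have h2 : (pullback.snd pm pm ≫ u) z = y := by
    rw [← ev2_snd comm]
    refine (Scheme.Hom.comp_apply (ev2 comm) (pullback.snd pX pX) z).trans ?_
    rw [← hy]
    refine (Scheme.Hom.comp_apply (pullback.diagonal pX) (pullback.snd pX pX) y).symm.trans ?_
    rw [pullback.diagonal_snd]
    rfl
  rw [h1, h2]

theorem mem_diag_of_eq (comm : u ≫ pX = pm ≫ m) (δ : Spec (CommRingCat.of k) ⟶ pullback pm pm)
    (h : δ ≫ pullback.fst pm pm ≫ u = δ ≫ pullback.snd pm pm ≫ u) :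
    ev2 comm (δ (IsLocalRing.closedPoint k)) ∈ Set.range (pullback.diagonal pX) := by
  have h1 : δ ≫ ev2 comm = (δ ≫ pullback.fst pm pm ≫ u) ≫ pullback.diagonal pX := by
    apply pullback.hom_ext
    · rw [Category.assoc, Category.assoc, pullback.diagonal_fst, Category.comp_id, ev2_fst]
    · rw [Category.assoc, Category.assoc, pullback.diagonal_snd, Category.comp_id, ev2_snd, h]
  have h2 : ev2 comm (δ (IsLocalRing.closedPoint k)) = (δ ≫ ev2 comm) (IsLocalRing.closedPoint k) :=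
    (Scheme.Hom.comp_apply _ _ _).symm
  rw [h2, h1]
  exact ⟨(δ ≫ pullback.fst pm pm ≫ u) (IsLocalRing.closedPoint k), (Scheme.Hom.comp_apply _ _ _).symm⟩

end

/-- The open immersion `Y × Y ⟶ X × X`. -/
noncomputable def prodMap {X Y : Scheme.{u}} (pX : X ⟶ Spec (CommRingCat.of k)) (j : Y ⟶ X) :
    pullback (j ≫ pX) (j ≫ pX) ⟶ pullback pX pX :=
  pullback.map (j ≫ pX) (j ≫ pX) pX pX j j (𝟙 _) (by rw [Category.comp_id]) (by rw [Category.comp_id])

theorem prodMap_fst {X Y : Scheme.{u}} (pX : X ⟶ Spec (CommRingCat.of k)) (j : Y ⟶ X) :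
    prodMap pX j ≫ pullback.fst pX pX = pullback.fst _ _ ≫ j := pullback.lift_fst _ _ _

theorem prodMap_snd {X Y : Scheme.{u}} (pX : X ⟶ Spec (CommRingCat.of k)) (j : Y ⟶ X) :
    prodMap pX j ≫ pullback.snd pX pX = pullback.snd _ _ ≫ j := pullback.lift_snd _ _ _

instance {X Y : Scheme.{u}} (pX : X ⟶ Spec (CommRingCat.of k)) (j : Y ⟶ X) [IsOpenImmersion j] :
    IsOpenImmersion (prodMap pX j) := by
  unfold prodMap
  infer_instance

/-- **Very free curves through a general pair of points.** -/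
theorem exists_open_pair [IsAlgClosed k] {X Y M P : Scheme.{u}} (pX : X ⟶ Spec (CommRingCat.of k)) (j : Y ⟶ X)
    [IsOpenImmersion j] [IsIntegral Y] [Smooth (j ≫ pX)] [IsSeparated (j ≫ pX)]
    {m : M ⟶ Spec (CommRingCat.of k)} [LocallyOfFiniteType m] {pc : P ⟶ P1 k} {pm : P ⟶ M} {u : P ⟶ Y}
    (hM : IsMor (pP k) (j ≫ pX) m pc pm u) (f : P1 k ⟶ Y) (hf : f ≫ j ≫ pX = pP k)
    (hnc : ¬ ∃ x : Y, Set.range f ⊆ {x}) (hvf : MorSch.IsVeryFree (j ≫ pX) f) :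
    ∃ W : (pullback pX pX).Opens, (W : Set ↥(pullback pX pX)).Nonempty ∧
      ∀ w ∈ (W : Set ↥(pullback pX pX)), IsClosed ({w} : Set ↥(pullback pX pX)) →
        ∃ g : P1 k ⟶ Y, g ≫ j ≫ pX = pP k ∧ (¬ ∃ y : Y, Set.range g ⊆ {y}) ∧
          MorSch.IsVeryFree (j ≫ pX) g ∧
          (pullback.fst pX pX) w ∈ Set.range (g ≫ j) ∧ (pullback.snd pX pX) w ∈ Set.range (g ≫ j) := by
  have hlfp := EvUse.lfp_ev2 hM.sq hM.comm
  obtain ⟨μ₀, δ₀, -, -, h3, h4, -⟩ := EvUse.exists_delta hM f hf hnc hvf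
  have hV : Smooth ((ev2 hM.comm).smoothLocus.ι ≫ ev2 hM.comm) := K633.SmallExtPt.smooth_smoothLocus _
  have hΔ : IsClosed (Set.range (pullback.diagonal (j ≫ pX))) :=
    (pullback.diagonal (j ≫ pX)).isClosedEmbedding.isClosed_range
  let j2 := prodMap pX j
  refine ⟨⟨j2 '' (Set.range ((ev2 hM.comm).smoothLocus.ι ≫ ev2 hM.comm) ∩ (Set.range (pullback.diagonal (j ≫ pX)))ᶜ),
    j2.isOpenEmbedding.isOpenMap _ (((ev2 hM.comm).smoothLocus.ι ≫ ev2 hM.comm).isOpenMap.isOpen_range.inter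
      hΔ.isOpen_compl)⟩, ?_, ?_⟩
  · refine ⟨j2 (ev2 hM.comm (δ₀ (IsLocalRing.closedPoint k))), _, ⟨⟨⟨_, h3⟩, ?_⟩, ?_⟩, rfl⟩
    · exact (Scheme.Hom.comp_apply _ _ _).trans rfl
    · refine not_mem_diag hM.comm _ ?_
      exact h4
  · rintro _ ⟨y, ⟨⟨v, rfl⟩, hy⟩, rfl⟩ hw
    let w : ↥(pullback pX pX) := j2 (((ev2 hM.comm).smoothLocus.ι ≫ ev2 hM.comm) v)
    let Z : Set ↥(pullback pm pm) := ((ev2 hM.comm).smoothLocus : Set _) ∩ (ev2 hM.comm ≫ j2) ⁻¹' {w}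
    have hZ : IsLocallyClosed Z := (ev2 hM.comm).smoothLocus.isOpen.isLocallyClosed.inter
      (hw.preimage (ev2 hM.comm ≫ j2).continuous).isLocallyClosed
    have hZne : Z.Nonempty := by
      refine ⟨(ev2 hM.comm).smoothLocus.ι v, v.2, ?_⟩
      change (ev2 hM.comm ≫ j2) ((ev2 hM.comm).smoothLocus.ι v) = j2 (((ev2 hM.comm).smoothLocus.ι ≫ ev2 hM.comm) v)
      rw [Scheme.Hom.comp_apply, Scheme.Hom.comp_apply]
    have hc : IsProper (pP k) := Dix.ProjProper.isProper_toSpec 1 k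
    have hpm : IsProper pm := MorphismProperty.of_isPullback (P := @IsProper) hM.sq hc
    obtain ⟨δ, hδ, hδV, hδw⟩ := K921.DoubFam.exists_kpoint (pullback.fst pm pm ≫ pm ≫ m) hZ hZne
    have hδw' : (ev2 hM.comm ≫ j2) (δ (IsLocalRing.closedPoint k)) = w := hδw
    have hδy : ev2 hM.comm (δ (IsLocalRing.closedPoint k)) = ((ev2 hM.comm).smoothLocus.ι ≫ ev2 hM.comm) v := by
      apply j2.isOpenEmbedding.injective
      rw [← Scheme.Hom.comp_apply, hδw']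
    have hne : δ ≫ pullback.fst pm pm ≫ u ≠ δ ≫ pullback.snd pm pm ≫ u := fun h => hy (by
      rw [← hδy]
      exact mem_diag_of_eq hM.comm δ h)
    let h : P1 k ⟶ P := hM.sq.lift (𝟙 _) (pP k ≫ δ ≫ pullback.fst pm pm ≫ pm) (by
      rw [Category.id_comp, Category.assoc, Category.assoc, Category.assoc, hδ, Category.comp_id])
    have hh1 : h ≫ pc = 𝟙 _ := hM.sq.lift_fst _ _ _
    have hh2 : h ≫ pm = pP k ≫ δ ≫ pullback.fst pm pm ≫ pm := hM.sq.lift_snd _ _ _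
    have hg : (h ≫ u) ≫ j ≫ pX = pP k := by
      rw [Category.assoc, hM.comm, reassoc_of% hh2, hδ, Category.comp_id]
    obtain ⟨s1, s2⟩ := sec_comp hM.sq δ hδ h hh1 hh2 (pullback.fst pm pm) rfl
    obtain ⟨t1, t2⟩ := sec_comp hM.sq δ hδ h hh1 hh2 (pullback.snd pm pm) (by rw [pullback.condition])
    refine ⟨h ≫ u, hg, fun hcst => hne ?_, EvUse.isVeryFree_of_ev2 hM.sq hM.comm δ hδ _ hδV hne h hh1 hh2, ?_, ?_⟩
    · have h7 := eq_of_const (h ≫ u) hg hcst _ _ s1 t1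
      rw [← Category.assoc _ h u, s2, ← Category.assoc _ h u, t2, Category.assoc, Category.assoc] at h7
      exact h7
    · refine ⟨(δ ≫ pullback.fst pm pm ≫ pc) (IsLocalRing.closedPoint k), ?_⟩
      have e1 : ((h ≫ u) ≫ j) ((δ ≫ pullback.fst pm pm ≫ pc) (IsLocalRing.closedPoint k)) =
          ((δ ≫ pullback.fst pm pm ≫ pc) ≫ (h ≫ u) ≫ j) (IsLocalRing.closedPoint k) :=
        (Scheme.Hom.comp_apply _ _ _).symm
      have e2 : (δ ≫ pullback.fst pm pm ≫ pc) ≫ (h ≫ u) ≫ j = δ ≫ (ev2 hM.comm ≫ j2) ≫ pullback.fst pX pX := by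
        rw [Category.assoc (ev2 hM.comm), prodMap_fst, ev2_fst_assoc, Category.assoc h, ← Category.assoc _ h, s2, Category.assoc]
      have e3 : (δ ≫ (ev2 hM.comm ≫ j2) ≫ pullback.fst pX pX) (IsLocalRing.closedPoint k) =
          pullback.fst pX pX ((ev2 hM.comm ≫ j2) (δ (IsLocalRing.closedPoint k))) :=
        (Scheme.Hom.comp_apply _ _ _).trans (Scheme.Hom.comp_apply _ _ _)
      rw [e1, e2, e3, hδw']
    · refine ⟨(δ ≫ pullback.snd pm pm ≫ pc) (IsLocalRing.closedPoint k), ?_⟩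
      have e1 : ((h ≫ u) ≫ j) ((δ ≫ pullback.snd pm pm ≫ pc) (IsLocalRing.closedPoint k)) =
          ((δ ≫ pullback.snd pm pm ≫ pc) ≫ (h ≫ u) ≫ j) (IsLocalRing.closedPoint k) :=
        (Scheme.Hom.comp_apply _ _ _).symm
      have e2 : (δ ≫ pullback.snd pm pm ≫ pc) ≫ (h ≫ u) ≫ j = δ ≫ (ev2 hM.comm ≫ j2) ≫ pullback.snd pX pX := by
        rw [Category.assoc (ev2 hM.comm), prodMap_snd, ev2_snd_assoc, Category.assoc h, ← Category.assoc _ h, t2, Category.assoc]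
      have e3 : (δ ≫ (ev2 hM.comm ≫ j2) ≫ pullback.snd pX pX) (IsLocalRing.closedPoint k) =
          pullback.snd pX pX ((ev2 hM.comm ≫ j2) (δ (IsLocalRing.closedPoint k))) :=
        (Scheme.Hom.comp_apply _ _ _).trans (Scheme.Hom.comp_apply _ _ _)
      rw [e1, e2, e3, hδw']

/-- Restriction of a very free curve to the smooth locus. -/
theorem exists_lift {X : Scheme.{u}} (pX : X ⟶ Spec (CommRingCat.of k)) [IsIntegral X] [IsSeparated pX]
    (Y : X.Opens) (f : P1 k ⟶ X) (hnc : ¬ ∃ x : X, Set.range f ⊆ {x})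
    (hsm : Set.range f ⊆ (Y : Set X)) (hvf : MorSch.IsVeryFree pX f) :
    IsIntegral (Y : Scheme.{u}) ∧ ∃ f' : P1 k ⟶ (Y : Scheme.{u}), f' ≫ Y.ι = f ∧
      (¬ ∃ x : ↥(Y : Scheme.{u}), Set.range f' ⊆ {x}) ∧ MorSch.IsVeryFree (Y.ι ≫ pX) f' := by
  have hr : Set.range f ⊆ Set.range Y.ι := by
    rw [Scheme.Opens.range_ι]
    exact hsm
  let f' : P1 k ⟶ (Y : Scheme.{u}) := IsOpenImmersion.lift Y.ι f hr
  have hf' : f' ≫ Y.ι = f := IsOpenImmersion.lift_fac _ _ _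
  have hne : Nonempty ↥(Y : Scheme.{u}) := ⟨f' (Classical.arbitrary _)⟩
  refine ⟨inferInstance, f', hf', ?_, ?_⟩
  · rintro ⟨x, hx⟩
    refine hnc ⟨Y.ι x, ?_⟩
    rintro _ ⟨y, rfl⟩
    rw [← hf', Scheme.Hom.comp_apply]
    exact congrArg Y.ι (hx ⟨y, rfl⟩)
  · rw [OpenFree.isVeryFree_iff, hf']
    exact hvf

end K932.RCOpen
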