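import Mathlib.AlgebraicGeometry.Limits
import Mathlib.AlgebraicGeometry.Morphisms.ClosedImmersion
import Mathlib.AlgebraicGeometry.Morphisms.Flat
import Mathlib.AlgebraicGeometry.Morphisms.RingHomProperties
import Mathlib.AlgebraicGeometry.IdealSheaf.Functorial

/-!
# Coproducts of two disjoint closed immersions
-/

set_option autoImplicit false
universe u
open CategoryTheory CategoryTheory.Limits AlgebraicGeometry Opposite TopologicalSpace

namespace K932.TwoSec

variable {A B X : Scheme.{u}}

theorem desc_comp_mk (f : A ⟶ X) (g : B ⟶ X) (x : A ⊕ B) :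
    (coprod.desc f g) (coprodMk A B x) = Sum.elim (⇑f) (⇑g) x := by
  rcases x with x | x
  · rw [coprodMk_inl, ← Scheme.Hom.comp_apply, coprod.inl_desc]
    rfl
  · rw [coprodMk_inr, ← Scheme.Hom.comp_apply, coprod.inr_desc]
    rfl

theorem stalkMap_surjective_of_inl (D : A ⨿ B ⟶ X) (a : A)
    (h : Function.Surjective ((coprod.inl ≫ D).stalkMap a)) :
    Function.Surjective (D.stalkMap ((coprod.inl : A ⟶ A ⨿ B) a)) := by
  rw [Scheme.Hom.stalkMap_comp] at h
  intro y
  obtain ⟨x, hx⟩ := h ((coprod.inl : A ⟶ A ⨿ B).stalkMap a y)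
  refine ⟨x, ?_⟩
  have hi : Function.Injective ((coprod.inl : A ⟶ A ⨿ B).stalkMap a) :=
    (ConcreteCategory.bijective_of_isIso _).1
  exact hi hx

theorem stalkMap_surjective_of_inr (D : A ⨿ B ⟶ X) (a : B)
    (h : Function.Surjective ((coprod.inr ≫ D).stalkMap a)) :
    Function.Surjective (D.stalkMap ((coprod.inr : B ⟶ A ⨿ B) a)) := by
  rw [Scheme.Hom.stalkMap_comp] at h
  intro y
  obtain ⟨x, hx⟩ := h ((coprod.inr : B ⟶ A ⨿ B).stalkMap a y)
  refine ⟨x, ?_⟩
  have hi : Function.Injective ((coprod.inr : B ⟶ A ⨿ B).stalkMap a) :=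
    (ConcreteCategory.bijective_of_isIso _).1
  exact hi hx

/-- Two closed immersions with disjoint images. -/
theorem isClosedImmersion_desc (f : A ⟶ X) (g : B ⟶ X) [IsClosedImmersion f] [IsClosedImmersion g]
    (h : Disjoint (Set.range f) (Set.range g)) : IsClosedImmersion (coprod.desc f g) where
  isClosedEmbedding := by
    have h1 : Topology.IsClosedEmbedding (Sum.elim (⇑f) (⇑g)) :=
      Topology.IsClosedEmbedding.of_continuous_injective_isClosedMap (f.continuous.sumElim g.continuous)
        (Function.Injective.sumElim f.isClosedEmbedding.injective g.isClosedEmbedding.injective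
          (fun a b hab => Set.disjoint_left.1 h ⟨a, rfl⟩ ⟨b, hab.symm⟩))
        (f.isClosedEmbedding.isClosedMap.sumElim g.isClosedEmbedding.isClosedMap)
    have h2 : ⇑(coprod.desc f g) = Sum.elim (⇑f) (⇑g) ∘ (coprodMk A B).symm := by
      funext z
      obtain ⟨x, rfl⟩ := (coprodMk A B).surjective z
      rw [desc_comp_mk, Function.comp_apply, Homeomorph.symm_apply_apply]
    rw [h2]
    exact h1.comp (coprodMk A B).symm.isClosedEmbedding
  stalkMap_surjective := by
    intro z
    obtain ⟨x | x, rfl⟩ := (coprodMk A B).surjective z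
    · rw [coprodMk_inl]
      refine stalkMap_surjective_of_inl _ x ?_
      rw [coprod.inl_desc]
      exact f.stalkMap_surjective x
    · rw [coprodMk_inr]
      refine stalkMap_surjective_of_inr _ x ?_
      rw [coprod.inr_desc]
      exact g.stalkMap_surjective x

theorem eq_zero_of_app {V : (A ⨿ B).Opens} (z : Γ(A ⨿ B, V))
    (h1 : (coprod.inl : A ⟶ A ⨿ B).app V z = 0) (h2 : (coprod.inr : B ⟶ A ⨿ B).app V z = 0) : z = 0 := by
  have key : ∀ (y : ↥(A ⨿ B)) (hy : y ∈ V), (A ⨿ B).presheaf.germ V y hy z = 0 := by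
    intro y hy
    obtain ⟨x | x, hx⟩ := (coprodMk A B).surjective y
    · rw [coprodMk_inl] at hx
      subst hx
      have h3 := Scheme.Hom.germ_stalkMap_apply (coprod.inl : A ⟶ A ⨿ B) V x hy z
      rw [h1, map_zero] at h3
      have hi : Function.Injective ((coprod.inl : A ⟶ A ⨿ B).stalkMap x) :=
        (ConcreteCategory.bijective_of_isIso _).1
      exact hi (h3.trans (map_zero _).symm)
    · rw [coprodMk_inr] at hx
      subst hx
      have h3 := Scheme.Hom.germ_stalkMap_apply (coprod.inr : B ⟶ A ⨿ B) V x hy z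
      rw [h2, map_zero] at h3
      have hi : Function.Injective ((coprod.inr : B ⟶ A ⨿ B).stalkMap x) :=
        (ConcreteCategory.bijective_of_isIso _).1
      exact hi (h3.trans (map_zero _).symm)
  exact TopCat.Presheaf.section_ext (A ⨿ B).sheaf V z 0 (fun y hy => (key y hy).trans (map_zero _).symm)

/-- The kernel of a morphism out of a coproduct. -/
theorem ker_eq_inf (D : A ⨿ B ⟶ X) [QuasiCompact D] [QuasiCompact (coprod.inl ≫ D)]
    [QuasiCompact (coprod.inr ≫ D)] : D.ker = (coprod.inl ≫ D).ker ⊓ (coprod.inr ≫ D).ker := by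
  apply Scheme.IdealSheafData.ext
  funext U
  rw [Scheme.IdealSheafData.ideal_inf, Pi.inf_apply, Scheme.Hom.ker_apply, Scheme.Hom.ker_apply,
    Scheme.Hom.ker_apply]
  ext x
  rw [Ideal.mem_inf, RingHom.mem_ker, RingHom.mem_ker, RingHom.mem_ker]
  constructor
  · intro h
    constructor
    · have h3 : ((coprod.inl ≫ D).app U.1).hom x =
          ((coprod.inl : A ⟶ A ⨿ B).app (D ⁻¹ᵁ U.1)).hom ((D.app U.1).hom x) := by
        rw [Scheme.Hom.comp_app]
        rfl
      rw [h3, h, map_zero]
      rfl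
    · have h3 : ((coprod.inr ≫ D).app U.1).hom x =
          ((coprod.inr : B ⟶ A ⨿ B).app (D ⁻¹ᵁ U.1)).hom ((D.app U.1).hom x) := by
        rw [Scheme.Hom.comp_app]
        rfl
      rw [h3, h, map_zero]
      rfl
  · rintro ⟨h1, h2⟩
    exact eq_zero_of_app _ h1 h2

theorem ker_desc (f : A ⟶ X) (g : B ⟶ X) [IsClosedImmersion f] [IsClosedImmersion g]
    (h : Disjoint (Set.range f) (Set.range g)) : (coprod.desc f g).ker = f.ker ⊓ g.ker := by
  have h0 := isClosedImmersion_desc f g h
  have h1 : QuasiCompact (coprod.inl ≫ coprod.desc f g) := by rw [coprod.inl_desc]; infer_instance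
  have h2 : QuasiCompact (coprod.inr ≫ coprod.desc f g) := by rw [coprod.inr_desc]; infer_instance
  rw [ker_eq_inf, coprod.inl_desc, coprod.inr_desc]

theorem inf_eq_mul (I J : X.IdealSheafData) (h : Disjoint (I.support : Set X) (J.support : Set X)) :
    I ⊓ J = I * J := by
  have hs : I ⊔ J = ⊤ := by
    rw [← Scheme.IdealSheafData.support_eq_bot_iff, Scheme.IdealSheafData.support_sup]
    apply TopologicalSpace.Closeds.ext
    exact Set.disjoint_iff_inter_eq_empty.1 h
  symm
  apply Scheme.IdealSheafData.ext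
  rw [Scheme.IdealSheafData.ideal_mul, Scheme.IdealSheafData.ideal_inf]
  funext U
  simp only [Pi.mul_apply, Pi.inf_apply]
  apply Ideal.mul_eq_inf_of_coprime
  have := congrFun (congrArg Scheme.IdealSheafData.ideal hs) U
  simpa using this

theorem ker_desc_eq_mul (f : A ⟶ X) (g : B ⟶ X) [IsClosedImmersion f] [IsClosedImmersion g]
    (h : Disjoint (Set.range f) (Set.range g)) : (coprod.desc f g).ker = f.ker * g.ker := by
  rw [ker_desc f g h, inf_eq_mul]
  have h1 : (f.ker.support : Set X) = Set.range f := by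
    rw [Scheme.Hom.support_ker]
    exact f.isClosedEmbedding.isClosed_range.closure_eq
  have h2 : (g.ker.support : Set X) = Set.range g := by
    rw [Scheme.Hom.support_ker]
    exact g.isClosedEmbedding.isClosed_range.closure_eq
  rw [h1, h2]
  exact h

theorem flat_desc (f : A ⟶ X) (g : B ⟶ X) [Flat f] [Flat g] : Flat (coprod.desc f g) := by
  have hloc : IsZariskiLocalAtSource @Flat := HasRingHomProperty.instIsZariskiLocalAtSource (Q := RingHom.Flat)
  rw [IsZariskiLocalAtSource.iff_of_openCover (P := @Flat) (coprodOpenCover.{_, 0} A B)]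
  rintro (i | i)
  · change Flat (coprod.inl ≫ coprod.desc f g)
    rw [coprod.inl_desc]
    infer_instance
  · change Flat (coprod.inr ≫ coprod.desc f g)
    rw [coprod.inr_desc]
    infer_instance

/-- Equality of two morphisms out of a scheme mapping to a coproduct. -/
theorem hom_ext_of_coprod {T Y : Scheme.{u}} (p : T ⟶ A ⨿ B) (a b : T ⟶ Y)
    (h1 : ∀ {Z : Scheme.{u}} (t : Z ⟶ T) (s : Z ⟶ A), t ≫ p = s ≫ coprod.inl → t ≫ a = t ≫ b)
    (h2 : ∀ {Z : Scheme.{u}} (t : Z ⟶ T) (s : Z ⟶ B), t ≫ p = s ≫ coprod.inr → t ≫ a = t ≫ b) : a = b := by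
  refine Scheme.Cover.hom_ext ((coprodOpenCover.{_, 0} A B).pullback₁ p) _ _ ?_
  rintro (i | i)
  · exact h1 (pullback.fst p (coprod.inl : A ⟶ A ⨿ B)) (pullback.snd p (coprod.inl : A ⟶ A ⨿ B)) pullback.condition
  · exact h2 (pullback.fst p (coprod.inr : B ⟶ A ⨿ B)) (pullback.snd p (coprod.inr : B ⟶ A ⨿ B)) pullback.condition

end K932.TwoSec
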